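import Cfsg.Agent.Lib.Blocks.SectionNorm
import Cfsg.Agent.Lib.Characters.Generalized
import Cfsg.Agent.Lib.CharCorr.QuotientTools
import Cfsg.Agent.Lib.TwoDegrees.Basic
import Mathlib.GroupTheory.Transfer
import Mathlib.GroupTheory.FiniteAbelian.Duality
import Mathlib.RingTheory.RootsOfUnity.AlgebraicallyClosed
import Mathlib.Analysis.Complex.Polynomial.Basic

/-!
# Abelian Sylow subgroup with a normalizer of Frobenius type: local facts
-/

set_option autoImplicit false
set_option linter.style.haveILetI false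
set_option linter.unusedSectionVars false

namespace CfsgLib.AbelianFrob

open Cfsg CfsgLib.Characters CfsgLib.CharCorr
open scoped ComplexConjugate

universe u

variable {G : Type u} [Group G] {p : ℕ} (P : Sylow p G)

/-- The linear characters of `P`. -/
abbrev Dual : Type u := (↥(P : Subgroup G) →* ℂˣ)

/-- The normalizer. -/
abbrev NP : Subgroup G := Subgroup.normalizer ((P : Subgroup G) : Set G)

/-- The centralizer. -/
abbrev CP : Subgroup G := Subgroup.centralizer ((P : Subgroup G) : Set G)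

/-- Every non-identity element of `P` has the centralizer of `P` as its centralizer in `N(P)`. -/
def Fpf : Prop :=
  ∀ y : G, y ∈ (P : Subgroup G) → y ≠ 1 → Subgroup.centralizer ({y} : Set G) ⊓ NP P = CP P

/-- The conjugates of a linear character under the normalizer. -/
def orb (ψ : Dual P) : Set (Dual P) :=
  {ψ' | ∃ n : G, n ∈ NP P ∧ ∀ w w' : ↥(P : Subgroup G), (w' : G) = n * w * n⁻¹ → ψ' w' = ψ w}

/-- A linear character moved by an element of the normalizer. -/
noncomputable def dualAct (n : ↥(NP P)) (ψ : Dual P) : Dual P :=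
  ψ.comp ((P : Subgroup G).normalizerMonoidHom n⁻¹).toMonoidHom

theorem dualAct_apply (n : ↥(NP P)) (ψ : Dual P) {w w' : ↥(P : Subgroup G)}
    (h : (w' : G) = (n : G) * w * (n : G)⁻¹) : dualAct P n ψ w' = ψ w := by
  refine congrArg ψ (Subtype.ext ?_)
  show ((n⁻¹ : ↥(NP P)) : G) * w' * ((n⁻¹ : ↥(NP P)) : G)⁻¹ = w
  rw [h, Subgroup.coe_inv]; group

theorem dualAct_one (n : ↥(NP P)) : dualAct P n 1 = 1 := MonoidHom.one_comp _

theorem dualAct_mul (a b : ↥(NP P)) (ψ : Dual P) :
    dualAct P (a * b) ψ = dualAct P a (dualAct P b ψ) := by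
  refine MonoidHom.ext fun w => congrArg ψ (Subtype.ext ?_)
  show ((a * b)⁻¹ : ↥(NP P)).1 * w * ((a * b)⁻¹ : ↥(NP P)).1⁻¹ =
    (b⁻¹ : ↥(NP P)).1 * ((a⁻¹ : ↥(NP P)).1 * w * (a⁻¹ : ↥(NP P)).1⁻¹) * (b⁻¹ : ↥(NP P)).1⁻¹
  simp [mul_assoc]

theorem dualAct_id (ψ : Dual P) : dualAct P 1 ψ = ψ :=
  MonoidHom.ext fun w => dualAct_apply P 1 ψ (by simp)

theorem mem_orb {ψ ψ' : Dual P} : ψ' ∈ orb P ψ ↔ ∃ n : ↥(NP P), ψ' = dualAct P n ψ := by
  constructor
  · rintro ⟨n, hn, h⟩
    refine ⟨⟨n, hn⟩, MonoidHom.ext fun w' => ?_⟩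
    have hw : (n⁻¹ * (w' : G) * n) ∈ (P : Subgroup G) := by
      have := (Subgroup.mem_normalizer_iff.1 (Subgroup.inv_mem _ hn) (w' : G)).1 w'.2
      simpa using this
    rw [h ⟨_, hw⟩ w' (by simp [mul_assoc]), dualAct_apply P ⟨n, hn⟩ ψ
      (w := ⟨_, hw⟩) (by simp [mul_assoc])]
  · rintro ⟨n, rfl⟩
    exact ⟨n, n.2, fun w w' h => dualAct_apply P n ψ h⟩

theorem self_mem_orb (ψ : Dual P) : ψ ∈ orb P ψ := (mem_orb P).2 ⟨1, (dualAct_id P ψ).symm⟩

theorem orb_eq {ψ ψ' : Dual P} (h : ψ' ∈ orb P ψ) : orb P ψ' = orb P ψ := by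
  obtain ⟨n, rfl⟩ := (mem_orb P).1 h
  ext χ
  simp only [mem_orb]
  constructor
  · rintro ⟨k, rfl⟩; exact ⟨k * n, (dualAct_mul P k n ψ).symm⟩
  · rintro ⟨k, rfl⟩; exact ⟨k * n⁻¹, by rw [← dualAct_mul, inv_mul_cancel_right]⟩

theorem ne_one_of_mem_orb {ψ ψ' : Dual P} (h : ψ' ∈ orb P ψ) (hψ : ψ ≠ 1) : ψ' ≠ 1 := by
  rintro rfl
  obtain ⟨n, hn⟩ := (mem_orb P).1 h
  apply hψ
  rw [← dualAct_id P ψ, ← inv_mul_cancel n, dualAct_mul, ← hn, dualAct_one]

variable [Finite G] [Fact p.Prime]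

section Abelian

variable (hab : IsMulCommutative ↥(P : Subgroup G)) (hfrob : Fpf P)

include hab in
theorem le_CP : (P : Subgroup G) ≤ CP P := fun x hx =>
  Subgroup.mem_centralizer_iff.2 fun y hy => congrArg Subtype.val
    (mul_comm' (⟨y, hy⟩ : ↥(P : Subgroup G)) ⟨x, hx⟩)

include hab in
theorem le_centralizer_singleton {y : G} (hy : y ∈ (P : Subgroup G)) :
    (P : Subgroup G) ≤ Subgroup.centralizer ({y} : Set G) := fun x hx => by
  rw [Subgroup.mem_centralizer_singleton_iff]
  exact (Subgroup.mem_centralizer_iff.1 (le_CP P hab hx) y hy).symm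

omit [Finite G] [Fact p.Prime] in
theorem CP_le_NP : CP P ≤ NP P := Subgroup.centralizer_le_normalizer _

include hfrob in
omit [Fact p.Prime] in
/-- A linear character other than the principal one is fixed only by the centralizer. -/
theorem mem_CP_of_fix {ψ : Dual P} (hψ : ψ ≠ 1) {n : ↥(NP P)} (hn : dualAct P n ψ = ψ)
    (hab : IsMulCommutative ↥(P : Subgroup G)) : (n : G) ∈ CP P := by
  by_contra hC
  haveI := hab
  let f := (P : Subgroup G).normalizerMonoidHom n
  let g : ↥(P : Subgroup G) →* ↥(P : Subgroup G) :=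
    { toFun := fun w => f w * w⁻¹
      map_one' := by simp
      map_mul' := fun a b => by
        rw [map_mul, mul_inv_rev, mul_comm' b⁻¹ a⁻¹, mul_assoc, ← mul_assoc (f b),
          mul_comm' (f b) a⁻¹, mul_assoc a⁻¹, ← mul_assoc] }
  have hinj : Function.Injective g := by
    rw [injective_iff_map_eq_one]
    intro w hw
    by_contra hw1
    have hfix : f w = w := mul_inv_eq_one.1 hw
    apply hC
    rw [← hfrob (w : G) w.2 fun h => hw1 (Subtype.ext h)]
    refine ⟨Subgroup.mem_centralizer_singleton_iff.2 ?_, n.2⟩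
    have h' : (n : G) * w * (n : G)⁻¹ = w := congrArg Subtype.val hfix
    exact mul_inv_eq_iff_eq_mul.1 h'
  apply hψ
  refine MonoidHom.ext fun v => ?_
  obtain ⟨w, rfl⟩ := (Finite.injective_iff_surjective.1 hinj) v
  show ψ (f w * w⁻¹) = 1
  rw [map_mul, map_inv, mul_inv_eq_one]
  conv_lhs => rw [← hn]
  exact dualAct_apply P n ψ rfl

include hab in
omit [Fact p.Prime] in
theorem dualAct_of_mem_CP (n : ↥(NP P)) (hn : (n : G) ∈ CP P) (ψ : Dual P) :
    dualAct P n ψ = ψ := by
  refine MonoidHom.ext fun w => dualAct_apply P n ψ ?_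
  rw [← Subgroup.mem_centralizer_iff.1 hn w w.2]; group

include hab in
/-- Burnside: fusion in `P` is controlled by the normalizer. -/
theorem fusion {x : G} (hx : x ∈ (P : Subgroup G)) {g : G} (hg : g * x * g⁻¹ ∈ (P : Subgroup G)) :
    ∃ n ∈ NP P, n * x * n⁻¹ = g * x * g⁻¹ := by
  haveI : IsMulCommutative P := hab
  obtain ⟨n, hn, h⟩ := P.conj_eq_normalizer_conj_of_mem x g⁻¹ hx (by rwa [inv_inv])
  refine ⟨n⁻¹, Subgroup.inv_mem _ hn, ?_⟩
  rw [inv_inv] at h ⊢
  exact h.symm

include hab hfrob in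
/-- The centralizer of a non-identity element of `P` has a normal `p`-complement. -/
theorem centralizer_core_index {y : G} (hy : y ∈ (P : Subgroup G)) (hy1 : y ≠ 1) :
    ∃ k : ℕ, (pPrimeCore p ↥(Subgroup.centralizer ({y} : Set G))).index = p ^ k ∧
      Nat.card ↥(P : Subgroup G) =
        p ^ (Nat.card ↥(Subgroup.centralizer ({y} : Set G))).factorization p := by
  classical
  set H := Subgroup.centralizer ({y} : Set G)
  let Q : Sylow p H := P.subtype (le_centralizer_singleton P hab hy)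
  have hQ : Subgroup.normalizer ((Q : Subgroup H) : Set H) ≤
      Subgroup.centralizer ((Q : Subgroup H) : Set H) := by
    intro h hh
    have hn : (h : G) ∈ NP P := by
      rw [Subgroup.mem_normalizer_iff]
      intro x
      have key : ∀ a : H, a ∈ (Q : Subgroup H) ↔ (a : G) ∈ (P : Subgroup G) := fun a => Iff.rfl
      constructor
      · intro hx
        exact (key _).1 ((Subgroup.mem_normalizer_iff.1 hh
          ⟨x, le_centralizer_singleton P hab hy hx⟩).1 hx)
      · intro hx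
        have h1 := le_centralizer_singleton P hab hy hx
        have h2 : x ∈ H := by
          have := H.mul_mem (H.mul_mem (H.inv_mem h.2) h1) h.2
          simpa [mul_assoc] using this
        exact (key _).1 ((Subgroup.mem_normalizer_iff.1 hh ⟨x, h2⟩).2 hx)
    have hC : (h : G) ∈ CP P := hfrob y hy hy1 ▸ ⟨h.2, hn⟩
    exact Subgroup.mem_centralizer_iff.2 fun a ha =>
      Subtype.ext (Subgroup.mem_centralizer_iff.1 hC a ha)
  have hc := MonoidHom.ker_transferSylow_isComplement' Q hQ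
  have hle : (MonoidHom.transferSylow Q hQ).ker ≤ pPrimeCore p H :=
    CfsgLib.PCore.le_pPrimeCore_of_not_dvd inferInstance
      (MonoidHom.not_dvd_card_ker_transferSylow Q hQ)
  obtain ⟨a, ha⟩ := Q.2.exists_card_eq
  have hidx : (MonoidHom.transferSylow Q hQ).ker.index = p ^ a := by
    rw [hc.symm.index_eq_card, ha]
  obtain ⟨k, -, hk⟩ := (Nat.dvd_prime_pow (Fact.out : p.Prime)).1
    (hidx ▸ Subgroup.index_dvd_of_le hle)
  refine ⟨k, hk, ?_⟩
  rw [← Sylow.card_eq_multiplicity Q]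
  exact Nat.card_congr (Subgroup.subgroupOfEquivOfLe (le_centralizer_singleton P hab hy)).toEquiv.symm

theorem isPPart_self (hp : p.Prime) {y : G} (hy : y ∈ (P : Subgroup G)) : IsPPart p y y := by
  obtain ⟨k, hk⟩ := IsPGroup.iff_orderOf.1 P.2 ⟨y, hy⟩
  exact ⟨1, mul_one y, Commute.one_right y, ⟨k, by rw [← Subgroup.orderOf_mk y hy, hk]⟩,
    by rw [orderOf_one]; exact hp.not_dvd_one⟩

variable [Fintype G] {M : Ideal AlgInt} (hM : IsPModular p M)

include hab hfrob hM in
/-- The squares of the degrees in the principal block of `C(y)` sum to `#P`. -/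
theorem sum_sq_centralizer {y : G} (hy : y ∈ (P : Subgroup G)) (hy1 : y ≠ 1) :
    ∑ᶠ ψ ∈ principalBlock M ↥(Subgroup.centralizer ({y} : Set G)),
      (charDegree (ψ : ↥(Subgroup.centralizer ({y} : Set G)) → ℂ) : ℚ) ^ 2 =
      Nat.card ↥(P : Subgroup G) := by
  classical
  obtain ⟨k, hk, hcard⟩ := centralizer_core_index P hab hfrob hy hy1
  haveI := Fintype.ofFinite ↥(Subgroup.centralizer ({y} : Set G))
  have h := CfsgLib.Blocks.principal_norm_of_complement (H := ↥(Subgroup.centralizer ({y} : Set G)))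
    hM ⟨k, hk⟩ (y := 1) (by rw [orderOf_one]; exact hM.1.not_dvd_one)
  rw [finsum_mem_eq_sum_of_inter_support_eq _ (t := Finset.univ.filter
    (· ∈ principalBlock M ↥(Subgroup.centralizer ({y} : Set G)))) (by simp), hcard]
  rw [Finset.sum_congr rfl fun ψ _ => by
    rw [irr_one_eq_charDegree ψ, Complex.norm_natCast, ← Nat.cast_pow]] at h
  rw [← Nat.cast_sum, Nat.cast_inj] at h
  rw [← h]
  push_cast
  rfl

include hab hfrob hM in
/-- Members of the principal block are constant on the section of `y`. -/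
theorem value_eq {χ : IrrCharacter G} (hχ : χ ∈ principalBlock M G) {z y : G}
    (hz : IsPPart p z y) (hy : y ∈ (P : Subgroup G)) (hy1 : y ≠ 1) :
    (χ : G → ℂ) z = (χ : G → ℂ) y := by
  classical
  obtain ⟨v, rfl, hc, hk, hv⟩ := hz
  obtain ⟨k, hidx, -⟩ := centralizer_core_index P hab hfrob hy hy1
  have hvC : v ∈ Subgroup.centralizer ({y} : Set G) :=
    Subgroup.mem_centralizer_singleton_iff.2 hc.eq.symm
  set H := Subgroup.centralizer ({y} : Set G)
  have hvN : (⟨v, hvC⟩ : H) ∈ pPrimeCore p H := by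
    have h1 := Subgroup.pow_index_mem (pPrimeCore p H) (⟨v, hvC⟩ : H)
    rw [hidx] at h1
    obtain ⟨m, hm⟩ := exists_pow_eq_self_of_coprime (x := (⟨v, hvC⟩ : H))
      (Nat.Coprime.pow_left k ((Fact.out : p.Prime).coprime_iff_not_dvd.2
        (by rwa [Subgroup.orderOf_mk v hvC])))
    rw [← hm]
    exact Subgroup.pow_mem _ h1 m
  exact CfsgLib.Blocks.principal_apply_mul hM hk CfsgLib.PCore.not_dvd_card_pPrimeCore hvN hχ

end Abelian

end CfsgLib.AbelianFrob
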