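import Cfsg.Agent.Lib.AbelianFrob.Exceptional
import Cfsg.Agent.Lib.Blocks.ThirdMain

/-!
# Consequences of the structure of the principal block
-/

set_option autoImplicit false
set_option linter.style.haveILetI false
set_option linter.unusedSectionVars false

noncomputable section

namespace CfsgLib.AbelianFrob

open Cfsg CfsgLib.Characters CfsgLib.CharCorr
open scoped ComplexConjugate Classical

universe u

variable {G : Type u} [Group G] [Fintype G] {p : ℕ} [Fact p.Prime] (P : Sylow p G)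
  {M : Ideal AlgInt} (hab : IsMulCommutative ↥(P : Subgroup G)) (hfrob : Fpf P)
  (hM : IsPModular p M)

/-- The restriction of the principal character to `P`. -/
theorem bcoef_principal (ψ : Dual P) :
    bcoef P (principalIrr G) ψ = if ψ = 1 then 1 else 0 := by
  have h : (bcoef P (principalIrr G) ψ : ℂ) =
      classInner (linIrr P 1 : ↥(P : Subgroup G) → ℂ) (linIrr P ψ : ↥(P : Subgroup G) → ℂ) := by
    rw [bcoef_eq, classInner]
    congr 1
    refine Finset.sum_congr rfl fun y _ => ?_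
    rw [← irr_apply_inv (linIrr P ψ) y]
    simp [linIrr]
  rw [classInner_irr] at h
  by_cases hψ : ψ = 1
  · subst hψ
    rw [if_pos rfl] at h ⊢
    exact_mod_cast h
  · rw [if_neg fun e => hψ (linIrr_injective P e).symm] at h
    rw [if_neg hψ]
    exact_mod_cast h

include hM hab in
/-- A member of the principal block does not vanish on all of `P` outside the identity. -/
theorem exists_apply_ne_zero {χ : IrrCharacter G} (hχ : χ ∈ principalBlock M G)
    {y : G} (hy : y ∈ (P : Subgroup G)) : (χ : G → ℂ) y ≠ 0 := by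
  intro h0
  have h : MemLocalIdeal M (centralChar (fun _ : G => (1 : ℂ)) y - centralChar (χ : G → ℂ) y) :=
    hχ y
  have h1 : centralChar (χ : G → ℂ) y = 0 := by simp [centralChar, h0]
  have h2 : centralChar (fun _ : G => (1 : ℂ)) y =
      (((Subgroup.centralizer ({y} : Set G)).index : ℕ) : ℂ) := by simp [centralChar]
  rw [h1, h2, sub_zero, CfsgLib.Blocks.memLocalIdeal_natCast_iff hM] at h
  exact P.not_dvd_index
    (h.trans (Subgroup.index_dvd_of_le (le_centralizer_singleton P hab hy)))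

namespace Struct

variable {P} {μ : Dual P → IrrCharacter G} {A : IrrCharacter G → ℤ} {d δ : ℤ}
  (S : Struct P M μ A d δ)

include S

/-- The non-exceptional characters of the principal block. -/
@[reducible] def rest (S : Struct P M μ A d δ) : Finset (IrrCharacter G) :=
  Finset.univ.filter (· ∈ principalBlock M G) \ S.exc

theorem exc_subset : S.exc ⊆ Finset.univ.filter (· ∈ principalBlock M G) := fun χ hχ => by
  obtain ⟨ψ, hψ, rfl⟩ := S.mem_exc.1 hχ
  exact Finset.mem_filter.2 ⟨Finset.mem_univ _, S.mem ψ hψ⟩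

theorem mem_rest {χ : IrrCharacter G} :
    χ ∈ S.rest ↔ χ ∈ principalBlock M G ∧ χ ∉ S.exc := by simp [rest]

theorem sum_split {R : Type*} [AddCommMonoid R] (f : IrrCharacter G → R) :
    ∑ χ ∈ Finset.univ.filter (· ∈ principalBlock M G), f χ =
      ∑ χ ∈ S.rest, f χ + ∑ χ ∈ S.exc, f χ :=
  (Finset.sum_sdiff S.exc_subset).symm

theorem delta_ne_zero : δ ≠ 0 := by rcases S.sign with rfl | rfl <;> norm_num

theorem delta_sq : δ * δ = 1 := by rcases S.sign with rfl | rfl <;> norm_num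

include hab hfrob hM in
/-- The values of the principal block on `P` outside the identity. -/
theorem value {χ : IrrCharacter G} (hχ : χ ∈ principalBlock M G) {z y : G}
    (hz : IsPPart p z y) (hy : y ∈ (P : Subgroup G)) (hy1 : y ≠ 1) :
    (χ : G → ℂ) z = (A χ : ℂ) + (δ : ℂ) *
      ∑ ψ ∈ Finset.univ.filter (fun ψ : Dual P => ψ ≠ 1 ∧ μ ψ = χ), (ψ ⟨y, hy⟩ : ℂ) := by
  rw [value_eq P hab hfrob hM hχ hz hy hy1,
    show (χ : G → ℂ) y = (χ : G → ℂ) ((⟨y, hy⟩ : ↥(P : Subgroup G)) : G) from rfl,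
    res_eq_sum P hab χ ⟨y, hy⟩]
  have hy' : (⟨y, hy⟩ : ↥(P : Subgroup G)) ≠ 1 := fun e => hy1 (congrArg Subtype.val e)
  have hb : ∀ ψ : Dual P, (bcoef P χ ψ : ℂ) * (ψ ⟨y, hy⟩ : ℂ) =
      ((bcoef P χ 1 : ℂ) - A χ) * (ψ ⟨y, hy⟩ : ℂ) + (if ψ = 1 then (A χ : ℂ) else 0) +
        (δ : ℂ) * (if ψ ≠ 1 ∧ μ ψ = χ then (ψ ⟨y, hy⟩ : ℂ) else 0) := by
    intro ψ
    by_cases hψ : ψ = 1
    · subst hψ; simp
    · have h := congrArg (Int.cast (R := ℂ)) (S.bdiff χ hχ ψ hψ)
      push_cast at h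
      rw [if_neg hψ]
      by_cases hm : μ ψ = χ
      · rw [if_pos hm] at h
        rw [if_pos ⟨hψ, hm⟩]
        linear_combination (-(ψ ⟨y, hy⟩ : ℂ)) * h
      · rw [if_neg hm] at h
        rw [if_neg fun e => hm e.2]
        linear_combination (-(ψ ⟨y, hy⟩ : ℂ)) * h
  rw [Finset.sum_congr rfl fun ψ _ => hb ψ, Finset.sum_add_distrib, Finset.sum_add_distrib,
    ← Finset.mul_sum, sum_dual_apply P hab hy', mul_zero, zero_add, Finset.sum_ite_eq',
    if_pos (Finset.mem_univ _), ← Finset.mul_sum, Finset.sum_filter]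

include hab hfrob hM in
theorem value_rest {χ : IrrCharacter G} (hχ : χ ∈ S.rest) {z y : G}
    (hz : IsPPart p z y) (hy : y ∈ (P : Subgroup G)) (hy1 : y ≠ 1) :
    (χ : G → ℂ) z = (A χ : ℂ) := by
  obtain ⟨hB, he⟩ := S.mem_rest.1 hχ
  rw [S.value hab hfrob hM hB hz hy hy1, Finset.sum_eq_zero, mul_zero, add_zero]
  intro ψ hψ
  obtain ⟨-, h1, h2⟩ := Finset.mem_filter.1 hψ
  exact absurd (S.mem_exc.2 ⟨ψ, h1, h2⟩) he

include hab hfrob hM in
theorem value_exc {ψ : Dual P} (hψ : ψ ≠ 1) {z : G} (y : ↥(P : Subgroup G))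
    (hz : IsPPart p z y) (hy1 : (y : G) ≠ 1) :
    (μ ψ : G → ℂ) z = (d : ℂ) + (δ : ℂ) * ∑ᶠ ψ' ∈ orb P ψ, (ψ' y : ℂ) := by
  rw [S.value hab hfrob hM (S.mem ψ hψ) hz y.2 hy1, S.const ψ hψ,
    finsum_mem_eq_sum_of_inter_support_eq _
      (t := Finset.univ.filter fun ψ' : Dual P => ψ' ≠ 1 ∧ μ ψ' = μ ψ)]
  ext φ
  simp only [Set.mem_inter_iff, Finset.coe_filter, Finset.mem_univ, true_and, Set.mem_ofPred_eq]
  refine and_congr_left fun _ => ⟨fun h => ?_, fun h => ?_⟩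
  · exact ⟨ne_one_of_mem_orb P h hψ, ((S.eq_iff ψ φ hψ (ne_one_of_mem_orb P h hψ)).2 h).symm⟩
  · exact (S.eq_iff ψ φ hψ h.1).1 h.2.symm

include hab hfrob hM in
/-- The norm of the exceptional difference. -/
theorem norm_eq {ψ : Dual P} (hψ : ψ ≠ 1) :
    (d - δ) ^ 2 + ((S.exc.card : ℤ) - 1) * d ^ 2 + ∑ χ ∈ S.rest, A χ ^ 2 =
      ((CP P).relIndex (NP P) : ℤ) + 1 := by
  have h := inner_val P hab hfrob hM 1 ψ 1 ψ
  rw [pairK_one_left P hψ, pairK_one_right P hψ, pairK_of_ne P hψ,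
    if_pos (self_mem_orb P ψ)] at h
  rw [Finset.sum_congr rfl fun χ hχ => by rw [S.bdiff χ (Finset.mem_filter.1 hχ).2 ψ hψ],
    S.sum_split] at h
  have hmem : μ ψ ∈ S.exc := S.mem_exc.2 ⟨ψ, hψ, rfl⟩
  rw [← Finset.add_sum_erase _ _ hmem, if_pos rfl, S.const ψ hψ] at h
  rw [Finset.sum_congr rfl (fun χ hχ => by
    obtain ⟨φ, hφ, rfl⟩ := S.mem_exc.1 (Finset.mem_erase.1 hχ).2
    rw [if_neg (Finset.mem_erase.1 hχ).1.symm, sub_zero, S.const φ hφ] :
      ∀ χ ∈ S.exc.erase (μ ψ), _ = d * d), Finset.sum_const, Finset.card_erase_of_mem hmem,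
    nsmul_eq_mul, Nat.cast_sub (Finset.card_pos.2 ⟨_, hmem⟩)] at h
  rw [Finset.sum_congr rfl (fun χ hχ => by
    rw [if_neg (fun e : μ ψ = χ => (S.mem_rest.1 hχ).2 (e ▸ hmem)), sub_zero, ← sq] :
      ∀ χ ∈ S.rest, _ = A χ ^ 2)] at h
  simp only [pairK, if_pos, Nat.cast_one] at h
  linear_combination h

include hM in
/-- The weighted sum of the block on a regular element. -/
theorem regular_sum {ψ : Dual P} (hψ : ψ ≠ 1) {g : G} (hg : ¬ p ∣ orderOf g) :
    ∑ χ ∈ Finset.univ.filter (· ∈ principalBlock M G), (A χ : ℂ) * (χ : G → ℂ) g =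
      (δ : ℂ) * (μ ψ : G → ℂ) g := by
  have h := column_regular P hM 1 ψ hg
  rw [Finset.sum_congr rfl fun χ hχ => by
    rw [S.bdiff χ (Finset.mem_filter.1 hχ).2 ψ hψ, Int.cast_sub, sub_mul],
    Finset.sum_sub_distrib, sub_eq_zero] at h
  rw [h, Finset.sum_eq_single_of_mem (μ ψ)
    (Finset.mem_filter.2 ⟨Finset.mem_univ _, S.mem ψ hψ⟩) fun χ _ hne => by
      rw [if_neg (Ne.symm hne)]; simp, if_pos rfl]

include hM in
theorem regular_eq {ψ φ : Dual P} (hψ : ψ ≠ 1) (hφ : φ ≠ 1) {g : G} (hg : ¬ p ∣ orderOf g) :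
    (μ ψ : G → ℂ) g = (μ φ : G → ℂ) g :=
  mul_left_cancel₀ (Int.cast_ne_zero.2 S.delta_ne_zero)
    ((S.regular_sum hM hψ hg).symm.trans (S.regular_sum hM hφ hg))

include hM in
theorem regular_rel {ψ : Dual P} (hψ : ψ ≠ 1) {g : G} (hg : ¬ p ∣ orderOf g) :
    ((S.exc.card : ℂ) * d - δ) * (μ ψ : G → ℂ) g +
      ∑ χ ∈ S.rest, (A χ : ℂ) * (χ : G → ℂ) g = 0 := by
  have h := S.regular_sum hM hψ hg
  rw [S.sum_split, Finset.sum_congr rfl (fun χ hχ => by
    obtain ⟨φ, hφ, rfl⟩ := S.mem_exc.1 hχ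
    rw [S.const φ hφ, S.regular_eq hM hφ hψ hg] :
      ∀ χ ∈ S.exc, _ = (d : ℂ) * (μ ψ : G → ℂ) g), Finset.sum_const, nsmul_eq_mul] at h
  linear_combination h

include hab hfrob hM in
theorem principal_mem_rest (hm : (CP P).relIndex (NP P) + 1 < Nat.card ↥(P : Subgroup G)) :
    principalIrr G ∈ S.rest ∧ A (principalIrr G) = 1 := by
  have hB : principalIrr G ∈ principalBlock M G := CfsgLib.Blocks.principalIrr_mem hM
  have key : ∀ φ : Dual P, φ ≠ 1 → μ φ ≠ principalIrr G → A (principalIrr G) = 1 := by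
    intro φ hφ hne
    have h := S.bdiff _ hB φ hφ
    rw [bcoef_principal, bcoef_principal, if_pos rfl, if_neg hφ, if_neg hne] at h
    linarith
  have hno : ∀ ψ : Dual P, ψ ≠ 1 → μ ψ ≠ principalIrr G := by
    intro ψ hψ he
    obtain ⟨φ, hφ, hφ'⟩ := card_orb_lt P hab hfrob hM hψ hm
    have h1 := key φ hφ fun e => hφ' ((S.eq_iff ψ φ hψ hφ).1 (he.trans e.symm))
    have h := S.bdiff _ hB ψ hψ
    rw [bcoef_principal, bcoef_principal, if_pos rfl, if_neg hψ, if_pos he, h1] at h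
    exact S.delta_ne_zero (by linarith)
  refine ⟨S.mem_rest.2 ⟨hB, fun h => ?_⟩, ?_⟩
  · obtain ⟨ψ, hψ, he⟩ := S.mem_exc.1 h
    exact hno ψ hψ he
  · by_cases hex : ∃ φ : Dual P, φ ≠ 1
    · obtain ⟨φ, hφ⟩ := hex
      exact key φ hφ (hno φ hφ)
    · exfalso
      push Not at hex
      have : Nat.card (Dual P) = 1 :=
        Nat.card_eq_one_iff_unique.2 ⟨⟨fun a b => (hex a).trans (hex b).symm⟩, ⟨1⟩⟩
      rw [card_dual P hab] at this
      omega

include hab hfrob hM in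
theorem A_ne_zero (hP : Nat.card ↥(P : Subgroup G) ≠ 1) {χ : IrrCharacter G} (hχ : χ ∈ S.rest) :
    A χ ≠ 0 := by
  intro h0
  haveI : Nontrivial ↥(P : Subgroup G) := Finite.one_lt_card_iff_nontrivial.1
    (lt_of_le_of_ne Nat.card_pos (Ne.symm hP))
  obtain ⟨y, hy⟩ := exists_ne (1 : ↥(P : Subgroup G))
  refine exists_apply_ne_zero P hab hM (S.mem_rest.1 hχ).1 y.2 ?_
  rw [S.value_rest hab hfrob hM hχ (isPPart_self P hM.1 y.2) y.2 fun e => hy (Subtype.ext e), h0,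
    Int.cast_zero]

include hab hfrob in
theorem card_exc_eq (hP : Nat.card ↥(P : Subgroup G) ≠ 1) {m : ℕ}
    (hCN : (CP P).relIndex (NP P) = m) :
    S.exc.card = (Nat.card ↥(P : Subgroup G) - 1) / m ∧ 0 < m := by
  have h := S.card_exc_mul hab hfrob
  rw [hCN] at h
  have : 2 ≤ Nat.card ↥(P : Subgroup G) := by
    have := Nat.card_pos (α := ↥(P : Subgroup G)); omega
  have hm : 0 < m := Nat.pos_of_ne_zero fun e => by rw [e, zero_mul] at h; omega
  exact ⟨by rw [← h, Nat.mul_div_cancel_left _ hm], hm⟩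

include hab hfrob in
theorem two_le_card_exc (hm : (CP P).relIndex (NP P) + 1 < Nat.card ↥(P : Subgroup G)) :
    2 ≤ S.exc.card := by
  have h := S.card_exc_mul hab hfrob
  rcases Nat.lt_or_ge S.exc.card 2 with h2 | h2
  · interval_cases hc : S.exc.card <;> omega
  · exact h2

include hab hfrob hM in
theorem card_rest_le (hm : (CP P).relIndex (NP P) + 1 < Nat.card ↥(P : Subgroup G))
    {ψ : Dual P} (hψ : ψ ≠ 1) : S.rest.card ≤ (CP P).relIndex (NP P) := by
  have h := S.norm_eq hab hfrob hM hψ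
  have h1 : (S.rest.card : ℤ) ≤ ∑ χ ∈ S.rest, A χ ^ 2 := by
    rw [Finset.card_eq_sum_ones, Nat.cast_sum]
    refine Finset.sum_le_sum fun χ hχ => ?_
    have := sq_pos_of_ne_zero (S.A_ne_zero hab hfrob hM (by omega) hχ)
    push_cast; omega
  have h2 : (2 : ℤ) ≤ S.exc.card := by exact_mod_cast S.two_le_card_exc hab hfrob hm
  have h3 : (1 : ℤ) ≤ (d - δ) ^ 2 + ((S.exc.card : ℤ) - 1) * d ^ 2 := by
    by_cases hd : d = 0
    · subst hd; rcases S.sign with rfl | rfl <;> norm_num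
    · nlinarith [sq_pos_of_ne_zero hd, sq_nonneg (d - δ)]
  omega

end Struct

end CfsgLib.AbelianFrob
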