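import Cfsg.Agent.Lib.AbelianFrob.Inner
import Cfsg.Agent.Lib.Characters.Exceptional

/-!
# The exceptional characters of the principal block
-/

set_option autoImplicit false
set_option linter.style.haveILetI false
set_option linter.unusedSectionVars false

noncomputable section

namespace CfsgLib.AbelianFrob

open Cfsg CfsgLib.Characters CfsgLib.CharCorr
open scoped ComplexConjugate Classical

universe u

variable {G : Type u} [Group G] [Fintype G] {p : ℕ} [Fact p.Prime] (P : Sylow p G)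
  (M : Ideal AlgInt)

/-- The exceptional characters `μ ψ`, the sign and the values of the principal block. -/
structure Struct (μ : Dual P → IrrCharacter G) (A : IrrCharacter G → ℤ) (d δ : ℤ) : Prop where
  sign : δ = 1 ∨ δ = -1
  mem : ∀ ψ, ψ ≠ 1 → μ ψ ∈ principalBlock M G
  eq_iff : ∀ ψ φ, ψ ≠ 1 → φ ≠ 1 → (μ ψ = μ φ ↔ φ ∈ orb P ψ)
  bdiff : ∀ χ ∈ principalBlock M G, ∀ ψ, ψ ≠ 1 →
    bcoef P χ 1 - bcoef P χ ψ = A χ - if μ ψ = χ then δ else 0
  const : ∀ ψ, ψ ≠ 1 → A (μ ψ) = d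

/-- The pairing of two linear characters. -/
def pairK (ψ φ : Dual P) : ℤ :=
  if φ = 1 then (if ψ = 1 then ((CP P).relIndex (NP P) : ℤ) else 0)
  else if ψ ∈ orb P φ then 1 else 0

variable {M} (hab : IsMulCommutative ↥(P : Subgroup G)) (hfrob : Fpf P) (hM : IsPModular p M)

include hab hfrob in
theorem card_transport_eq (ψ φ : Dual P) :
    (Nat.card {n : ↥(NP P) // dualAct P n φ = ψ} : ℂ) = pairK P ψ φ * Nat.card ↥(CP P) := by
  unfold pairK
  by_cases hφ : φ = 1
  · subst hφ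
    rw [card_transport_one, if_pos rfl]
    split_ifs with h
    · have h2 : Nat.card ↥(NP P) = Nat.card ↥(CP P) * (CP P).relIndex (NP P) := by
        rw [← ((CP P).subgroupOf (NP P)).card_mul_index,
          Nat.card_congr (Subgroup.subgroupOfEquivOfLe (CP_le_NP P)).toEquiv]
        rfl
      rw [h2]; push_cast; ring
    · simp
  · rw [card_transport P hab hfrob hφ, if_neg hφ]
    split_ifs with h <;> simp

include hab hfrob hM in
theorem inner_val (ψ₁ ψ₂ φ₁ φ₂ : Dual P) :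
    ∑ χ ∈ Finset.univ.filter (· ∈ principalBlock M G),
      (bcoef P χ ψ₁ - bcoef P χ ψ₂) * (bcoef P χ φ₁ - bcoef P χ φ₂) =
      pairK P ψ₁ φ₁ - pairK P ψ₁ φ₂ - (pairK P ψ₂ φ₁ - pairK P ψ₂ φ₂) := by
  have h := inner_bcoef P hab hfrob hM ψ₁ ψ₂ φ₁ φ₂
  rw [card_transport_eq P hab hfrob, card_transport_eq P hab hfrob,
    card_transport_eq P hab hfrob, card_transport_eq P hab hfrob, ← sub_mul, ← sub_mul,
    ← sub_mul] at h
  exact_mod_cast mul_right_cancel₀ (Nat.cast_ne_zero.2 Nat.card_pos.ne') h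

theorem pairK_of_ne {ψ φ : Dual P} (hφ : φ ≠ 1) :
    pairK P ψ φ = if ψ ∈ orb P φ then 1 else 0 := by rw [pairK, if_neg hφ]

theorem pairK_one_left {φ : Dual P} (hφ : φ ≠ 1) : pairK P 1 φ = 0 := by
  rw [pairK_of_ne P hφ, if_neg fun h => ne_one_of_mem_orb P h hφ rfl]

theorem pairK_one_right {ψ : Dual P} (hψ : ψ ≠ 1) : pairK P ψ 1 = 0 := by
  rw [pairK, if_pos rfl, if_neg hψ]

include hab hfrob hM in
theorem bcoef_orb {ψ φ : Dual P} (hψ : ψ ≠ 1) (h : φ ∈ orb P ψ) :
    ∀ χ ∈ principalBlock M G, bcoef P χ φ = bcoef P χ ψ := by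
  intro χ hχ
  have hφ := ne_one_of_mem_orb P h hψ
  have h1 := inner_val P hab hfrob hM φ ψ φ ψ
  rw [pairK_of_ne P hψ, pairK_of_ne P hψ, pairK_of_ne P hφ, pairK_of_ne P hφ, orb_eq P h,
    if_pos h, if_pos (self_mem_orb P ψ)] at h1
  have h2 := (Finset.sum_eq_zero_iff_of_nonneg fun x _ => mul_self_nonneg _).1
    (h1.trans (by ring)) χ (Finset.mem_filter.2 ⟨Finset.mem_univ _, hχ⟩)
  exact sub_eq_zero.1 (mul_self_eq_zero.1 h2)

include hab hfrob hM in
theorem card_orb_lt {ψ : Dual P} (hψ : ψ ≠ 1)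
    (hm : (CP P).relIndex (NP P) + 1 < Nat.card ↥(P : Subgroup G)) :
    ∃ φ : Dual P, φ ≠ 1 ∧ φ ∉ orb P ψ := by
  by_contra hc
  push Not at hc
  have h1 : (Finset.univ : Finset (Dual P)) ⊆
      insert 1 (Finset.univ.filter (· ∈ orb P ψ)) := fun φ _ => by
    by_cases hφ : φ = 1
    · simp [hφ]
    · simp [hc φ hφ]
  have h2 := (Finset.card_le_card h1).trans (Finset.card_insert_le _ _)
  rw [card_orb P hab hfrob hψ, Finset.card_univ, ← Nat.card_eq_fintype_card, card_dual P hab] at h2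
  omega

include hab hfrob hM in
/-- Existence of the exceptional characters. -/
theorem exists_struct (hm : (CP P).relIndex (NP P) + 1 < Nat.card ↥(P : Subgroup G)) :
    ∃ μ A d δ, Struct P M μ A d δ := by
  let ι := {O : Set (Dual P) // ∃ ψ, ψ ≠ 1 ∧ O = orb P ψ}
  let orbOf : ∀ ψ : Dual P, ψ ≠ 1 → ι := fun ψ h => ⟨orb P ψ, ψ, h, rfl⟩
  let rep : ι → Dual P := fun O => O.2.choose
  have hrep : ∀ O, rep O ≠ 1 ∧ O.1 = orb P (rep O) := fun O => O.2.choose_spec
  have hK : ∀ i j, pairK P (rep i) (rep j) = if i = j then 1 else 0 := fun i j => by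
    rw [pairK_of_ne P (hrep j).1]
    by_cases h : i = j
    · subst h; rw [if_pos (self_mem_orb P _), if_pos rfl]
    · rw [if_neg h, if_neg]
      intro hmem
      exact h (Subtype.ext (by rw [(hrep i).2, (hrep j).2, orb_eq P hmem]))
  obtain ⟨ψ₀, hψ₀⟩ : ∃ ψ : Dual P, ψ ≠ 1 := by
    by_contra hc
    push Not at hc
    have : Nat.card (Dual P) = 1 :=
      Nat.card_eq_one_iff_unique.2 ⟨⟨fun a b => (hc a).trans (hc b).symm⟩, ⟨1⟩⟩
    rw [card_dual P hab] at this
    omega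
  let i₀ := orbOf ψ₀ hψ₀
  set B := Finset.univ.filter (· ∈ principalBlock M G) with hB
  let co : ι → IrrCharacter G → ℤ := fun i χ =>
    if χ ∈ B then bcoef P χ (rep i) - bcoef P χ (rep i₀) else 0
  let τ : ι → G → ℂ := fun i => ∑ χ : IrrCharacter G, (co i χ : ℂ) • (χ : G → ℂ)
  have hco : ∀ i (ξ : IrrCharacter G), classInner (τ i) (ξ : G → ℂ) = (co i ξ : ℂ) := fun i ξ => by
    simp [τ, classInner_sum_left, classInner_smul_left, classInner_irr]
  have hin : ∀ i j, classInner (τ i) (τ j) =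
      (((if i = j then 1 else 0) - (if i = i₀ then 1 else 0) -
        ((if i₀ = j then 1 else 0) - 1) : ℤ) : ℂ) := by
    intro i j
    have h1 : classInner (τ i) (τ j) = ((∑ χ ∈ B, (bcoef P χ (rep i) - bcoef P χ (rep i₀)) *
        (bcoef P χ (rep j) - bcoef P χ (rep i₀)) : ℤ) : ℂ) := by
      rw [show τ j = ∑ χ : IrrCharacter G, (co j χ : ℂ) • (χ : G → ℂ) from rfl,
        classInner_sum_right, Int.cast_sum, ← Finset.sum_subset (Finset.subset_univ B)]
      · refine Finset.sum_congr rfl fun χ hχ => ?_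
        rw [classInner_smul_right, hco, map_intCast]
        simp only [co, if_pos hχ]
        push_cast; ring
      · intro χ _ hχ
        rw [classInner_smul_right, hco]
        simp [co, if_neg hχ]
    rw [h1, inner_val P hab hfrob hM, hK, hK, hK, hK, if_pos rfl]
  obtain ⟨ε, hε, μ', hinj, hτ⟩ := CharExceptional.exceptional_family i₀ τ
    (by
      funext x
      simp [τ, co])
    (fun i => isGeneralizedCharacter_iff.2
      ⟨isClassFunction_sum _ fun χ _ => isClassFunction_smul (irr_isClassFunction χ) _,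
        fun χ => ⟨_, hco i χ⟩⟩)
    (fun i => by
      have h := column_regular P hM (rep i) (rep i₀) (g := 1)
        (by rw [orderOf_one]; exact hM.1.not_dvd_one)
      simp only [τ, Finset.sum_apply, Pi.smul_apply, smul_eq_mul]
      rw [← Finset.sum_subset (Finset.subset_univ B) fun χ _ hχ => by simp [co, hχ], ← h]
      exact Finset.sum_congr rfl fun χ hχ => by
        simp only [co, if_pos (show χ ∈ B from hχ)])
    (fun i hi => by
      rw [hin, if_pos rfl, if_neg hi, if_neg (Ne.symm hi)]; norm_num)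
    (fun i j hi hj hij => by
      rw [hin, if_neg hij, if_neg hi, if_neg (Ne.symm hj)]; norm_num)
  obtain ⟨δ, rfl, hδ⟩ : ∃ δ : ℤ, ε = (δ : ℂ) ∧ (δ = 1 ∨ δ = -1) := by
    rcases hε with rfl | rfl
    · exact ⟨1, by norm_num, Or.inl rfl⟩
    · exact ⟨-1, by norm_num, Or.inr rfl⟩
  have hcoef : ∀ (i : ι) (χ : IrrCharacter G), co i χ =
      δ * ((if μ' i = χ then 1 else 0) - if μ' i₀ = χ then 1 else 0) := by
    intro i χ
    have h := hco i χ
    rw [hτ i, classInner_smul_left, classInner_sub_left, classInner_irr, classInner_irr] at h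
    have h' : (co i χ : ℂ) =
        ((δ * ((if μ' i = χ then 1 else 0) - if μ' i₀ = χ then 1 else 0) : ℤ) : ℂ) := by
      rw [← h]; push_cast; rfl
    exact_mod_cast h'
  have hmem : ∀ i, μ' i ∈ principalBlock M G := by
    intro i
    by_contra hnot
    have hnB : μ' i ∉ B := by simp [hB, hnot]
    rcases eq_or_ne i i₀ with hi | hi
    · obtain ⟨φ, hφ, hφ'⟩ := card_orb_lt P hab hfrob hM hψ₀ hm
      set j := orbOf φ hφ
      have hj : μ' j ≠ μ' i₀ := fun e => hφ' (by
        have h2 : orb P φ = orb P ψ₀ := congrArg Subtype.val (hinj e)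
        exact h2 ▸ self_mem_orb P φ)
      have h1 := hcoef j (μ' i)
      rw [hi, if_neg hj, if_pos rfl] at h1
      rw [hi] at hnB
      simp only [co, if_neg hnB] at h1
      rcases hδ with rfl | rfl <;> simp at h1
    · have h1 := hcoef i (μ' i)
      rw [if_pos rfl, if_neg (fun e => hi (hinj e).symm)] at h1
      simp only [co, if_neg hnB] at h1
      rcases hδ with rfl | rfl <;> simp at h1
  let μ : Dual P → IrrCharacter G := fun ψ =>
    if h : ψ = 1 then principalIrr G else μ' (orbOf ψ h)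
  let A : IrrCharacter G → ℤ := fun χ =>
    bcoef P χ 1 - bcoef P χ (rep i₀) + δ * if μ' i₀ = χ then 1 else 0
  have hμ : ∀ ψ (h : ψ ≠ 1), μ ψ = μ' (orbOf ψ h) := fun ψ h => dif_neg h
  have hbd : ∀ χ ∈ principalBlock M G, ∀ ψ, ψ ≠ 1 →
      bcoef P χ 1 - bcoef P χ ψ = A χ - if μ ψ = χ then δ else 0 := by
    intro χ hχ ψ hψ
    have h1 := hcoef (orbOf ψ hψ) χ
    have hχB : χ ∈ B := Finset.mem_filter.2 ⟨Finset.mem_univ _, hχ⟩
    have h2 : bcoef P χ (rep (orbOf ψ hψ)) = bcoef P χ ψ := by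
      refine bcoef_orb P hab hfrob hM hψ ?_ χ hχ
      show rep (orbOf ψ hψ) ∈ orb P ψ
      have h3 := (hrep (orbOf ψ hψ)).2
      rw [show orb P ψ = (orbOf ψ hψ).1 from rfl, h3]
      exact self_mem_orb P _
    simp only [co, if_pos hχB, h2] at h1
    rw [hμ ψ hψ]
    simp only [A]
    split_ifs at h1 ⊢ <;> linarith
  have heq : ∀ ψ φ, ψ ≠ 1 → φ ≠ 1 → (μ ψ = μ φ ↔ φ ∈ orb P ψ) := by
    intro ψ φ hψ hφ
    rw [hμ ψ hψ, hμ φ hφ, hinj.eq_iff]
    constructor
    · intro h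
      have h2 : orb P ψ = orb P φ := congrArg Subtype.val h
      rw [h2]; exact self_mem_orb P φ
    · exact fun h => Subtype.ext (orb_eq P h).symm
  have hmem' : ∀ ψ, ψ ≠ 1 → μ ψ ∈ principalBlock M G := fun ψ hψ => hμ ψ hψ ▸ hmem _
  refine ⟨μ, A, A (μ ψ₀), δ, hδ, hmem', heq, hbd, fun ψ hψ => ?_⟩
  by_cases hsame : μ ψ = μ ψ₀
  · rw [hsame]
  -- isometry with the principal character
  have h := inner_val P hab hfrob hM 1 ψ ψ ψ₀
  rw [pairK_one_left P hψ, pairK_one_left P hψ₀, pairK_of_ne P hψ, pairK_of_ne P hψ₀,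
    if_pos (self_mem_orb P ψ), if_neg (fun h' => hsame ((heq ψ₀ ψ hψ₀ hψ).2 h').symm)] at h
  rw [Finset.sum_congr rfl fun χ hχ => show
      (bcoef P χ 1 - bcoef P χ ψ) * (bcoef P χ ψ - bcoef P χ ψ₀) =
        (A χ - if μ ψ = χ then δ else 0) *
          ((if μ ψ = χ then δ else 0) - if μ ψ₀ = χ then δ else 0) by
      rw [hbd χ (Finset.mem_filter.1 hχ).2 ψ hψ]
      have h1 := hbd χ (Finset.mem_filter.1 hχ).2 ψ hψ
      have h2 := hbd χ (Finset.mem_filter.1 hχ).2 ψ₀ hψ₀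
      congr 1
      linarith] at h
  have hBmem : ∀ {ξ}, ξ ∈ principalBlock M G → ξ ∈ B :=
    fun hξ => Finset.mem_filter.2 ⟨Finset.mem_univ _, hξ⟩
  rw [Finset.sum_eq_add_of_mem (μ ψ) (μ ψ₀) (hBmem (hmem' ψ hψ)) (hBmem (hmem' ψ₀ hψ₀)) hsame
    fun c _ hc => by rw [if_neg (Ne.symm hc.1), if_neg (Ne.symm hc.2)]; ring] at h
  rw [if_pos rfl, if_pos rfl, if_neg (Ne.symm hsame), if_neg hsame] at h
  rcases hδ with rfl | rfl <;> linarith

namespace Struct

variable {P} {μ : Dual P → IrrCharacter G} {A : IrrCharacter G → ℤ} {d δ : ℤ}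
  (S : Struct P M μ A d δ)

include S

/-- The exceptional characters. -/
@[reducible] def exc (_ : Struct P M μ A d δ) : Finset (IrrCharacter G) :=
  (Finset.univ.filter (· ≠ 1)).image μ

theorem mem_exc {χ : IrrCharacter G} : χ ∈ S.exc ↔ ∃ ψ, ψ ≠ 1 ∧ μ ψ = χ := by simp [exc]

include hab hfrob in
theorem card_exc_mul :
    (CP P).relIndex (NP P) * S.exc.card = Nat.card ↥(P : Subgroup G) - 1 := by
  have h1 : (Finset.univ.filter fun ψ : Dual P => ψ ≠ 1).card =
      ∑ χ ∈ S.exc, ((Finset.univ.filter fun ψ : Dual P => ψ ≠ 1).filter fun ψ => μ ψ = χ).card :=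
    Finset.card_eq_sum_card_fiberwise fun ψ hψ => Finset.mem_image_of_mem μ hψ
  have h2 : ∀ χ ∈ S.exc, ((Finset.univ.filter fun ψ : Dual P => ψ ≠ 1).filter
      fun ψ => μ ψ = χ).card = (CP P).relIndex (NP P) := by
    intro χ hχ
    obtain ⟨φ, hφ, rfl⟩ := S.mem_exc.1 hχ
    rw [← card_orb P hab hfrob hφ]
    congr 1
    ext ψ
    simp only [Finset.mem_filter, Finset.mem_univ, true_and]
    constructor
    · rintro ⟨hψ, he⟩
      exact (S.eq_iff φ ψ hφ hψ).1 he.symm
    · intro h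
      exact ⟨ne_one_of_mem_orb P h hφ, ((S.eq_iff φ ψ hφ (ne_one_of_mem_orb P h hφ)).2 h).symm⟩
  rw [Finset.sum_congr rfl h2, Finset.sum_const, smul_eq_mul, Finset.filter_ne',
    Finset.card_erase_of_mem (Finset.mem_univ _), Finset.card_univ, ← Nat.card_eq_fintype_card,
    card_dual P hab] at h1
  rw [h1, mul_comm]

end Struct

end CfsgLib.AbelianFrob
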