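import Cfsg.Agent.Lib.AbelianFrob.Derived

/-!
# Normal form of the exceptional characters in the index three case
-/

set_option autoImplicit false
set_option linter.style.haveILetI false
set_option linter.unusedSectionVars false

noncomputable section

namespace CfsgLib.AbelianFrob

open Cfsg CfsgLib.Characters CfsgLib.CharCorr
open scoped Classical

universe u

variable {G : Type u} [Group G] [Fintype G] {p : ℕ} [Fact p.Prime] (P : Sylow p G)
  {M : Ideal AlgInt} (hab : IsMulCommutative ↥(P : Subgroup G)) (hfrob : Fpf P)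
  (hM : IsPModular p M) (hCN : (CP P).relIndex (NP P) = 3)
  (hP4 : 4 < Nat.card ↥(P : Subgroup G))

include hab hfrob hM hCN hP4 in
/-- The exceptional characters can be chosen to vanish in the mean. -/
theorem exists_struct_three :
    ∃ μ A δ, ∃ S : Struct P M μ A 0 δ,
      S.rest.card = 3 ∧ ∀ χ ∈ S.rest, A χ = 1 ∨ A χ = -1 := by
  have hm : (CP P).relIndex (NP P) + 1 < Nat.card ↥(P : Subgroup G) := by omega
  obtain ⟨μ, A, d, δ, S⟩ := exists_struct P hab hfrob hM hm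
  have h2 := S.two_le_card_exc hab hfrob hm
  have hmul := S.card_exc_mul hab hfrob
  rw [hCN] at hmul
  obtain ⟨ψ₀, hψ₀⟩ : ∃ ψ : Dual P, ψ ≠ 1 := by
    obtain ⟨χ, hχ⟩ := Finset.card_pos.1 (show 0 < S.exc.card by omega)
    obtain ⟨ψ, hψ, -⟩ := S.mem_exc.1 hχ
    exact ⟨ψ, hψ⟩
  have hnorm := S.norm_eq hab hfrob hM hψ₀
  rw [hCN] at hnorm
  push_cast at hnorm
  obtain ⟨h1mem, hA1⟩ := S.principal_mem_rest hab hfrob hM hm
  have hone : 1 ≤ ∑ χ ∈ S.rest, A χ ^ 2 := by
    refine le_trans (le_of_eq ?_)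
      (Finset.single_le_sum (fun χ _ => sq_nonneg (A χ)) h1mem)
    rw [hA1, one_pow]
  -- from three squares to three signs
  have hsigns : ∀ (μ' : Dual P → IrrCharacter G) (A' : IrrCharacter G → ℤ) (δ' : ℤ)
      (S' : Struct P M μ' A' 0 δ'),
      ∃ μ A δ, ∃ S : Struct P M μ A 0 δ, S.rest.card = 3 ∧ ∀ χ ∈ S.rest, A χ = 1 ∨ A χ = -1 := by
    intro μ' A' δ' S'
    obtain ⟨h1mem', hA1'⟩ := S'.principal_mem_rest hab hfrob hM hm
    have hn := S'.norm_eq hab hfrob hM hψ₀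
    rw [hCN, zero_sub, neg_sq, pow_two δ', S'.delta_sq] at hn
    push_cast at hn
    have hsum : ∑ χ ∈ S'.rest, A' χ ^ 2 = 3 := by linear_combination hn
    have hsq : ∀ χ ∈ S'.rest, A' χ ^ 2 = 1 := by
      intro χ hχ
      have h1 := S'.A_ne_zero hab hfrob hM (by omega) hχ
      have hle : A' χ ^ 2 ≤ 3 :=
        hsum ▸ Finset.single_le_sum (fun χ _ => sq_nonneg (A' χ)) hχ
      have : A' χ = 1 ∨ A' χ = -1 := by
        have h3 : -2 < A' χ := by nlinarith
        have h4 : A' χ < 2 := by nlinarith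
        omega
      rcases this with h | h <;> simp [h]
    refine ⟨μ', A', δ', S', ?_, fun χ hχ => sq_eq_one_iff.1 (hsq χ hχ)⟩
    rw [Finset.sum_congr rfl hsq, Finset.sum_const, nsmul_one] at hsum
    exact_mod_cast hsum
  by_cases hd : d = 0
  · subst hd
    exact hsigns μ A δ S
  have hr : (2 : ℤ) ≤ S.exc.card := by exact_mod_cast h2
  have hd1 : d = 1 ∨ d = -1 := by
    have h5 : d ^ 2 ≤ 3 := by nlinarith [sq_nonneg (d - δ), sq_nonneg d]
    have h3 : -2 < d := by nlinarith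
    have h4 : d < 2 := by nlinarith
    omega
  have hdδ : d = δ ∧ S.exc.card ≤ 4 := by
    have hd2 : d ^ 2 = 1 := sq_eq_one_iff.2 hd1
    rw [hd2] at hnorm
    constructor
    · rcases hd1 with rfl | rfl <;> rcases S.sign with rfl | rfl <;> first | rfl | (exfalso; omega)
    · have : (S.exc.card : ℤ) ≤ 4 := by nlinarith [sq_nonneg (d - δ)]
      exact_mod_cast this
  obtain ⟨rfl, hr4⟩ := hdδ
  rw [sub_self, pow_two d, S.delta_sq] at hnorm
  have hreg := S.regular_rel hM hψ₀ (g := 1) (by rw [orderOf_one]; exact hM.1.not_dvd_one)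
  have hcard : Nat.card ↥(P : Subgroup G) = 3 * S.exc.card + 1 := by omega
  -- two exceptional characters
  have hr2 : S.exc.card = 2 := by
    by_contra hne
    obtain h3 | h4 : S.exc.card = 3 ∨ S.exc.card = 4 := by omega
    · rw [h3] at hcard
      obtain ⟨k, hk⟩ := P.2.exists_card_eq
      rw [hcard] at hk
      have h2' : p ∣ 2 * 5 := by
        rcases k with _ | k
        · simp at hk
        · exact ⟨p ^ k, by rw [← pow_succ']; exact hk⟩
      have hp : p.Prime := Fact.out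
      rcases hp.dvd_mul.1 h2' with h | h
      · rw [(Nat.prime_dvd_prime_iff_eq hp Nat.prime_two).1 h] at hk
        have h5 : (5 : ℕ) ∣ 2 ^ k := ⟨2, by omega⟩
        exact absurd (Nat.Prime.dvd_of_dvd_pow (by norm_num) h5) (by norm_num)
      · rw [(Nat.prime_dvd_prime_iff_eq hp (by norm_num)).1 h] at hk
        have h5 : (2 : ℕ) ∣ 5 ^ k := ⟨5, by omega⟩
        exact absurd (Nat.prime_two.dvd_of_dvd_pow h5) (by norm_num)
    · rw [h4] at hnorm
      push_cast at hnorm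
      have hX : ∑ χ ∈ S.rest, A χ ^ 2 = 1 := by linarith
      have hX1 : S.rest = {principalIrr G} := by
        refine Finset.eq_singleton_iff_unique_mem.2 ⟨h1mem, fun χ hχ => ?_⟩
        by_contra hne'
        have := Finset.add_le_sum (fun χ _ => sq_nonneg (A χ)) h1mem hχ (Ne.symm hne')
        rw [hX, hA1] at this
        have := sq_pos_of_ne_zero (S.A_ne_zero hab hfrob hM (by omega) hχ)
        omega
      rw [hX1, Finset.sum_singleton, hA1, h4, principalIrr_apply, irr_one_eq_charDegree] at hreg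
      have h' : ((3 * d * (charDegree (μ ψ₀ : G → ℂ) : ℤ) + 1 : ℤ) : ℂ) = ((0 : ℤ) : ℂ) := by
        push_cast at hreg ⊢
        linear_combination hreg
      have h'' := Int.cast_injective h'
      have : (3 : ℤ) ∣ 1 := ⟨-(d * (charDegree (μ ψ₀ : G → ℂ) : ℤ)), by linarith⟩
      norm_num at this
  -- exchange the two exceptional characters
  have hμ' : ∀ ψ, ψ ≠ 1 → ∃ χ ∈ S.exc, χ ≠ μ ψ := fun ψ _ =>
    Finset.exists_mem_ne (by omega) _
  haveI : Nonempty (IrrCharacter G) := ⟨principalIrr G⟩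
  choose! μ' hμ'1 hμ'2 using hμ'
  obtain ⟨a, b, hab', hexc⟩ := Finset.card_eq_two.1 hr2
  have hpair : ∀ ψ, ψ ≠ 1 → (μ ψ = a ∧ μ' ψ = b) ∨ (μ ψ = b ∧ μ' ψ = a) := by
    intro ψ hψ
    have h1 : μ ψ ∈ S.exc := S.mem_exc.2 ⟨ψ, hψ, rfl⟩
    have h2 := hμ'1 ψ hψ
    have h3 := hμ'2 ψ hψ
    rw [hexc, Finset.mem_insert, Finset.mem_singleton] at h1 h2
    rcases h1 with h1 | h1 <;> rcases h2 with h2 | h2 <;> simp_all
  refine hsigns μ' (fun χ => if χ ∈ S.exc then 0 else A χ) (-d) ⟨?_, ?_, ?_, ?_, ?_⟩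
  · rcases S.sign with rfl | rfl <;> simp
  · exact fun ψ hψ => (Finset.mem_filter.1 (S.exc_subset (hμ'1 ψ hψ))).2
  · intro ψ φ hψ hφ
    rw [← S.eq_iff ψ φ hψ hφ]
    rcases hpair ψ hψ with ⟨e1, e2⟩ | ⟨e1, e2⟩ <;> rcases hpair φ hφ with ⟨f1, f2⟩ | ⟨f1, f2⟩ <;>
      simp [e1, e2, f1, f2, hab', hab'.symm]
  · intro χ hχ ψ hψ
    rw [S.bdiff χ hχ ψ hψ]
    by_cases he : χ ∈ S.exc
    · obtain ⟨φ, hφ, hφe⟩ := S.mem_exc.1 he
      have hA : A χ = d := hφe ▸ S.const φ hφ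
      rw [if_pos he, hA]
      rw [hexc, Finset.mem_insert, Finset.mem_singleton] at he
      rcases hpair ψ hψ with ⟨e1, e2⟩ | ⟨e1, e2⟩ <;> rcases he with rfl | rfl <;>
        simp [e1, e2, hab', hab'.symm]
    · rw [if_neg he, if_neg (fun e : μ ψ = χ => he (e ▸ S.mem_exc.2 ⟨ψ, hψ, rfl⟩)),
        if_neg (fun e : μ' ψ = χ => he (e ▸ hμ'1 ψ hψ))]
  · intro ψ hψ
    simp [hμ'1 ψ hψ]

end CfsgLib.AbelianFrob
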