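import Cfsg.Agent.Lib.AbelianFrob.Basic
import Cfsg.Agent.Lib.Blocks.PrincipalColumn
import Cfsg.Agent.S4720

/-!
# The inner products of the columns of the principal block
-/

set_option autoImplicit false
set_option linter.style.haveILetI false
set_option linter.unusedSectionVars false

noncomputable section

namespace CfsgLib.AbelianFrob

open Cfsg CfsgLib.Characters CfsgLib.CharCorr
open scoped ComplexConjugate Classical

universe u

variable {G : Type u} [Group G] [Fintype G] {p : ℕ} [Fact p.Prime] (P : Sylow p G)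

instance : Fintype ↥(P : Subgroup G) := Fintype.ofFinite _

instance : Fintype (Dual P) :=
  haveI : Finite (Dual P) := LinearTwist.finite_unitsHom
  Fintype.ofFinite _

/-- A linear character as an irreducible one. -/
def linIrr (ψ : Dual P) : IrrCharacter ↥(P : Subgroup G) := ⟨_, isIrrCharacter_of_hom ψ⟩

/-- The multiplicity of a linear character of `P` in the restriction of `χ`. -/
def bcoef (χ : IrrCharacter G) (ψ : Dual P) : ℤ :=
  (mult (P : Subgroup G).subtype χ (linIrr P ψ) : ℤ)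

theorem bcoef_eq (χ : IrrCharacter G) (ψ : Dual P) :
    (bcoef P χ ψ : ℂ) = (Nat.card ↥(P : Subgroup G) : ℂ)⁻¹ *
      ∑ y : ↥(P : Subgroup G), (χ : G → ℂ) y * (ψ y⁻¹ : ℂ) := by
  show ((mult (P : Subgroup G).subtype χ (linIrr P ψ) : ℤ) : ℂ) = _
  rw [Int.cast_natCast, ← mult_spec, classInner]
  congr 1
  refine Finset.sum_congr rfl fun y _ => ?_
  rw [← irr_apply_inv (linIrr P ψ) y]
  rfl

theorem linIrr_injective : Function.Injective (linIrr P) := fun a b h =>
  MonoidHom.ext fun g => Units.ext (congrFun (congrArg Subtype.val h) g)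

variable (hab : IsMulCommutative ↥(P : Subgroup G))

include hab in
theorem linIrr_surjective : Function.Surjective (linIrr P) := by
  intro θ
  have h := CfsgLib.TwoDegrees.deg_le_index (⊤ : Subgroup ↥(P : Subgroup G))
    (fun a _ b _ => mul_comm' a b) θ
  rw [Subgroup.index_top] at h
  have := charDegree_irr_pos θ
  obtain ⟨f, hf⟩ := LinearTwist.exists_hom_of_charDegree_one (irr_isCharacter θ)
    (show charDegree (θ : ↥(P : Subgroup G) → ℂ) = 1 by omega)
  exact ⟨f, Subtype.ext hf.symm⟩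

include hab in
/-- Restriction to `P`. -/
theorem res_eq_sum (χ : IrrCharacter G) (y : ↥(P : Subgroup G)) :
    (χ : G → ℂ) y = ∑ ψ : Dual P, (bcoef P χ ψ : ℂ) * (ψ y : ℂ) := by
  have h := congrFun (irr_res_eq_sum χ (P : Subgroup G).subtype) y
  simp only [Finset.sum_apply, Pi.smul_apply, smul_eq_mul, mult_spec, Function.comp_apply] at h
  refine h.trans (Fintype.sum_bijective (linIrr P) ⟨linIrr_injective P, linIrr_surjective P hab⟩
    _ _ fun ψ => ?_).symm
  simp [bcoef, linIrr]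

include hab in
theorem sum_dual_apply {y : ↥(P : Subgroup G)} (hy : y ≠ 1) : ∑ ψ : Dual P, (ψ y : ℂ) = 0 := by
  haveI := hab
  letI : CommGroup ↥(P : Subgroup G) :=
    { (inferInstance : Group ↥(P : Subgroup G)) with mul_comm := mul_comm' }
  obtain ⟨f, hf⟩ :=
    CommGroup.exists_apply_ne_one_of_hasEnoughRootsOfUnity ↥(P : Subgroup G) ℂ hy
  have h1 : (f y : ℂ) * ∑ ψ : Dual P, (ψ y : ℂ) = ∑ ψ : Dual P, (ψ y : ℂ) := by
    rw [Finset.mul_sum]
    exact Fintype.sum_equiv (Equiv.mulLeft f) _ _ fun ψ => by simp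
  have h3 : ((f y : ℂ) - 1) * ∑ ψ : Dual P, (ψ y : ℂ) = 0 := by rw [sub_mul, h1, one_mul, sub_self]
  exact (mul_eq_zero.1 h3).resolve_left (sub_ne_zero.2 fun e => hf (Units.ext e))

include hab in
theorem card_dual : Nat.card (Dual P) = Nat.card ↥(P : Subgroup G) := by
  haveI := hab
  letI : CommGroup ↥(P : Subgroup G) :=
    { (inferInstance : Group ↥(P : Subgroup G)) with mul_comm := mul_comm' }
  exact CommGroup.card_monoidHom_of_hasEnoughRootsOfUnity ↥(P : Subgroup G) ℂ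

variable (hfrob : Fpf P) {M : Ideal AlgInt} (hM : IsPModular p M)

include hM in
/-- Column relations paired with a difference of two linear characters. -/
theorem column_rel (c : IrrCharacter G → ℂ) (ψ₁ ψ₂ : Dual P)
    (h : ∀ y : ↥(P : Subgroup G), ψ₁ y ≠ ψ₂ y → ∀ v : G, Commute v (y : G) → ¬ p ∣ orderOf v →
      ∑ ζ : IrrCharacter G, c ζ * (ζ : G → ℂ) ((y : G) * v) = 0) :
    ∑ χ ∈ Finset.univ.filter (· ∈ principalBlock M G),
      ((bcoef P χ ψ₁ - bcoef P χ ψ₂ : ℤ) : ℂ) * c χ = 0 := by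
  simp only [Int.cast_sub, bcoef_eq, ← mul_sub, ← Finset.sum_sub_distrib, Finset.mul_sum,
    Finset.sum_mul]
  rw [Finset.sum_comm]
  refine Finset.sum_eq_zero fun y _ => ?_
  by_cases hy : ψ₁ y = ψ₂ y
  · exact Finset.sum_eq_zero fun χ _ => by
      rw [map_inv, map_inv, hy, sub_self]; simp
  · have h0 := CfsgLib.Blocks.sum_principal_eq_zero_of_section hM
      (z := (y : G)) (by
        obtain ⟨k, hk⟩ := IsPGroup.iff_orderOf.1 P.2 y
        exact ⟨k, by rw [Subgroup.orderOf_coe, hk]⟩) c (fun v hv hv' => h y hy v hv hv')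
    rw [← mul_zero ((Nat.card ↥(P : Subgroup G) : ℂ)⁻¹ * ((ψ₁ y⁻¹ : ℂ) - (ψ₂ y⁻¹ : ℂ))), ← h0,
      Finset.mul_sum]
    exact Finset.sum_congr rfl fun χ _ => by ring

include hM in
/-- On `p`-regular elements the weighted sums vanish. -/
theorem column_regular (ψ₁ ψ₂ : Dual P) {g : G} (hg : ¬ p ∣ orderOf g) :
    ∑ χ ∈ Finset.univ.filter (· ∈ principalBlock M G),
      ((bcoef P χ ψ₁ - bcoef P χ ψ₂ : ℤ) : ℂ) * (χ : G → ℂ) g = 0 := by
  refine column_rel P hM _ ψ₁ ψ₂ fun y hy v hv hv' => ?_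
  have hnc : ¬ IsConj g⁻¹ ((y : G) * v) := by
    intro hc
    obtain ⟨d, hd⟩ := isConj_iff.1 hc
    have hy1 : y ≠ 1 := fun e => hy (by rw [e, map_one, map_one])
    have h1 : ¬ p ∣ orderOf ((y : G) * v) := by
      rw [← hd, ← MulAut.conj_apply, MulEquiv.orderOf_eq, orderOf_inv]; exact hg
    have hp1 : IsPPart p ((y : G) * v) 1 :=
      ⟨(y : G) * v, one_mul _, Commute.one_left _, ⟨0, by simp⟩, h1⟩
    obtain ⟨-, -, -, hk, -⟩ := isPPart_self P (Fact.out : p.Prime) y.2
    exact hy1 (Subtype.ext (CfsgLib.Blocks.IsPPart.unique (Fact.out : p.Prime)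
      (CfsgLib.Blocks.isPPart_mul hv.symm hk hv') hp1))
  have h := column_orth g⁻¹ ((y : G) * v)
  rw [if_neg hnc] at h
  have h' := congrArg conj h
  rw [map_zero, map_sum] at h'
  rw [← h']
  exact Finset.sum_congr rfl fun ζ _ => by
    rw [irr_apply_inv, map_mul, Complex.conj_conj, Complex.conj_conj]

include hab hfrob hM in
/-- The fundamental inner products. -/
theorem inner_bcoef (ψ₁ ψ₂ φ₁ φ₂ : Dual P) :
    ((∑ χ ∈ Finset.univ.filter (· ∈ principalBlock M G),
      (bcoef P χ ψ₁ - bcoef P χ ψ₂) * (bcoef P χ φ₁ - bcoef P χ φ₂) : ℤ) : ℂ) *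
      Nat.card ↥(CP P) =
      ((Nat.card {n : ↥(NP P) // dualAct P n φ₁ = ψ₁} : ℂ) -
        Nat.card {n : ↥(NP P) // dualAct P n φ₂ = ψ₁}) -
      ((Nat.card {n : ↥(NP P) // dualAct P n φ₁ = ψ₂} : ℂ) -
        Nat.card {n : ↥(NP P) // dualAct P n φ₂ = ψ₂}) := by
  set Pg := (P : Subgroup G)
  by_cases htriv : Nat.card ↥Pg = 1
  · haveI : Subsingleton ↥Pg := (Nat.card_eq_one_iff_unique.1 htriv).1
    have he : ∀ ψ : Dual P, ψ = 1 := fun ψ => MonoidHom.ext fun y => by
      rw [Subsingleton.elim y 1, map_one, map_one]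
    rw [he ψ₁, he ψ₂, he φ₁, he φ₂]
    simp
  haveI : Nontrivial ↥Pg := Finite.one_lt_card_iff_nontrivial.1
    (lt_of_le_of_ne Nat.card_pos (Ne.symm htriv))
  let U : Set G := {y | y ∈ Pg ∧ y ≠ 1}
  have hU : U.Nonempty := by
    obtain ⟨y, hy⟩ := exists_ne (1 : ↥Pg)
    exact ⟨y, y.2, fun h => hy (Subtype.ext h)⟩
  let θ : ↥Pg → ℂ := fun y => (ψ₁ y : ℂ) - ψ₂ y
  let η : ↥Pg → ℂ := fun y => (φ₁ y : ℂ) - φ₂ y
  have hgen : ∀ a b : Dual P, IsGeneralizedCharacter ↥Pg (fun y => (a y : ℂ) - b y) := fun a b =>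
    isGeneralizedCharacter_sub (isGeneralizedCharacter_irr (linIrr P a))
      (isGeneralizedCharacter_irr (linIrr P b))
  have h := Cfsg.Agent.S4720.result (G := G) p M hM Pg P.2 (NP P) Subgroup.le_normalizer le_rfl U hU
    (fun y hy => hy.1) (fun n hn u hu => ⟨(Subgroup.mem_normalizer_iff.1 hn u).1 hu.1, fun e => hu.2
      (by simpa using e)⟩) (fun u hu g hg => fusion P hab hu.1 hg)
    ((Nat.card ↥Pg : ℚ) / Nat.card ↥(CP P))
    (fun y hy => by
      rw [sum_sq_centralizer P hab hfrob hM hy.1 hy.2,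
        inf_comm (NP P), hfrob y hy.1 hy.2, div_mul_cancel₀]
      exact_mod_cast Nat.card_pos.ne')
    θ η (hgen ψ₁ ψ₂) (hgen φ₁ φ₂) (fun y hy => by
      have : y = 1 := Subtype.ext (by by_contra h'; exact hy ⟨y.2, h'⟩)
      simp [θ, this])
  rw [finsum_mem_eq_sum_of_inter_support_eq _
    (t := Finset.univ.filter (· ∈ principalBlock M G)) (by simp)] at h
  simp only [finsum_eq_sum_of_fintype] at h
  have hb : ∀ (a b : Dual P) (χ : IrrCharacter G),
      (Nat.card ↥Pg : ℂ)⁻¹ * ∑ y : ↥Pg, (χ : G → ℂ) y * ((a y⁻¹ : ℂ) - b y⁻¹) =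
        ((bcoef P χ a - bcoef P χ b : ℤ) : ℂ) := fun a b χ => by
    simp only [Int.cast_sub, bcoef_eq, ← mul_sub, ← Finset.sum_sub_distrib]
    rfl
  simp only [θ, η, hb, map_intCast] at h
  rw [Int.cast_sum, Finset.sum_congr rfl fun χ _ => Int.cast_mul _ _, h]
  -- the right hand side
  have hext : ∀ (n : ↥(NP P)) (y : ↥Pg),
      extendByZero Pg (fun w => (φ₁ w : ℂ) - φ₂ w) ((n : G) * (y : G) * (n : G)⁻¹) =
        (dualAct P n⁻¹ φ₁ y : ℂ) - dualAct P n⁻¹ φ₂ y := by
    intro n y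
    have hm := (Subgroup.mem_normalizer_iff.1 n.2 (y : G)).1 y.2
    rw [CfsgLib.Induction.extendByZero_mem _ _ hm]
    have e : ∀ φ : Dual P, dualAct P n⁻¹ φ y = φ ⟨_, hm⟩ := fun φ =>
      dualAct_apply P n⁻¹ φ (w := ⟨_, hm⟩) (by simp [mul_assoc])
    rw [e, e]
  simp only [hext]
  have horth : ∀ a b : Dual P, ∑ y : ↥Pg, (a y : ℂ) * conj (b y : ℂ) =
      if b = a then (Nat.card ↥Pg : ℂ) else 0 := by
    intro a b
    have h1 := classInner_irr (linIrr P a) (linIrr P b)
    rw [classInner, inv_mul_eq_iff_eq_mul₀ (by simp)] at h1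
    refine h1.trans ?_
    by_cases hba : b = a
    · subst hba; simp; rfl
    · rw [if_neg hba, if_neg fun e => hba (linIrr_injective P e).symm, mul_zero]
  have hsum : ∀ a b : Dual P,
      ∑ y : ↥Pg, ∑ n : ↥(NP P), (a y : ℂ) * conj (dualAct P n⁻¹ b y : ℂ) =
        (Nat.card ↥Pg : ℂ) * Nat.card {n : ↥(NP P) // dualAct P n b = a} := by
    intro a b
    rw [Finset.sum_comm, Finset.sum_congr rfl fun n _ => horth a _, ← Finset.sum_filter,
      Finset.sum_const, nsmul_eq_mul, mul_comm, ← Fintype.card_subtype, ← Nat.card_eq_fintype_card]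
    congr 2
    exact Nat.card_congr
      ⟨fun n => ⟨n.1⁻¹, n.2⟩, fun n => ⟨n.1⁻¹, by rw [inv_inv]; exact n.2⟩,
        fun n => Subtype.ext (inv_inv _), fun n => Subtype.ext (inv_inv _)⟩
  rw [Finset.sum_congr rfl fun y _ => by
    rw [map_sum, Finset.mul_sum, Finset.sum_congr rfl fun n _ => by
      rw [map_sub, sub_mul, mul_sub, mul_sub]]]
  simp only [Finset.sum_sub_distrib, hsum]
  have hP0 : (Nat.card ↥Pg : ℂ) ≠ 0 := by simp
  have hC0 : (Nat.card ↥(CP P) : ℂ) ≠ 0 := by simp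
  push_cast
  field_simp

include hfrob hab in
/-- The transporter between two non-principal linear characters. -/
theorem card_transport {φ ψ : Dual P} (hφ : φ ≠ 1) :
    Nat.card {n : ↥(NP P) // dualAct P n φ = ψ} =
      if ψ ∈ orb P φ then Nat.card ↥(CP P) else 0 := by
  split_ifs with h
  · obtain ⟨a, ha⟩ := (mem_orb P).1 h
    refine Nat.card_congr
      { toFun := fun n => ⟨((a⁻¹ * n.1 : ↥(NP P)) : G), mem_CP_of_fix P hfrob hφ
          (by rw [dualAct_mul, n.2, ha, ← dualAct_mul, inv_mul_cancel, dualAct_id]) hab⟩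
        invFun := fun c => ⟨a * ⟨c, CP_le_NP P c.2⟩, by
          rw [dualAct_mul, dualAct_of_mem_CP P hab ⟨(c : G), CP_le_NP P c.2⟩ c.2, ha]⟩
        left_inv := fun n => Subtype.ext (Subtype.ext (by simp))
        right_inv := fun c => Subtype.ext (by simp) }
  · refine Nat.card_eq_zero.2 (Or.inl ⟨fun n => h ((mem_orb P).2 ⟨n.1, n.2.symm⟩)⟩)

theorem card_transport_one (ψ : Dual P) :
    Nat.card {n : ↥(NP P) // dualAct P n 1 = ψ} = if ψ = 1 then Nat.card ↥(NP P) else 0 := by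
  split_ifs with h
  · subst h
    exact Nat.card_congr (Equiv.subtypeUnivEquiv fun n => dualAct_one P n)
  · exact Nat.card_eq_zero.2 (Or.inl ⟨fun n => h (by rw [← n.2, dualAct_one])⟩)

include hfrob hab in
/-- An orbit has as many elements as the index of the centralizer. -/
theorem card_orb {φ : Dual P} (hφ : φ ≠ 1) :
    (Finset.univ.filter (· ∈ orb P φ)).card = (CP P).relIndex (NP P) := by
  have h1 : Nat.card ↥(NP P) = (Finset.univ.filter (· ∈ orb P φ)).card * Nat.card ↥(CP P) := by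
    rw [Nat.card_eq_fintype_card, ← Finset.card_univ,
      Finset.card_eq_sum_card_fiberwise (f := fun n : ↥(NP P) => dualAct P n φ)
        (t := Finset.univ.filter (· ∈ orb P φ)) (fun n _ => by
          simpa using (mem_orb P).2 ⟨n, rfl⟩)]
    rw [Finset.sum_congr rfl fun ψ hψ => by
      rw [← Fintype.card_subtype, ← Nat.card_eq_fintype_card, card_transport P hab hfrob hφ,
        if_pos (Finset.mem_filter.1 hψ).2], Finset.sum_const, smul_eq_mul]
  have h2 : Nat.card ↥(NP P) = Nat.card ↥(CP P) * (CP P).relIndex (NP P) := by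
    rw [← ((CP P).subgroupOf (NP P)).card_mul_index,
      Nat.card_congr (Subgroup.subgroupOfEquivOfLe (CP_le_NP P)).toEquiv]
    rfl
  rw [h1, mul_comm] at h2
  exact Nat.eq_of_mul_eq_mul_left Nat.card_pos h2

end CfsgLib.AbelianFrob
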