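import Mathlib.Tactic.Linarith
import Mathlib.Tactic.Ring
import Mathlib.Tactic.LinearCombination
import Mathlib.Data.Int.GCD
import Mathlib.Algebra.Group.Even

/-!
# Three signed degrees with vanishing weighted sums
-/

set_option autoImplicit false

namespace CfsgLib.AbelianFrob

/-- A positive integer times a non-zero square is a square only if it is a square. -/
theorem isSquare_of_mul_sq {N k n : ℤ} (hk : k ≠ 0) (h : N * k ^ 2 = n ^ 2) : IsSquare N := by
  obtain ⟨l, rfl⟩ : k ∣ n := (Int.pow_dvd_pow_iff two_ne_zero).1 ⟨N, by rw [← h, mul_comm]⟩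
  refine ⟨l, mul_right_cancel₀ (pow_ne_zero 2 hk) ?_⟩
  linear_combination h

theorem one_neg {A B C u v w : ℤ} (hA : 0 < A) (hB : 0 < B) (hu : u ≠ A) (h1 : 1 + A + B = C)
    (h2 : 1 + u + v = w) (h3 : A * B * C + u ^ 2 * B * C + v ^ 2 * A * C = w ^ 2 * A * B) :
    False := by
  subst h1 h2
  have h : B * (u - A) ^ 2 + A * (v - B) ^ 2 + (u * B - v * A) ^ 2 = 0 := by linear_combination h3
  have := mul_pos hB (sq_pos_of_ne_zero (sub_ne_zero.2 hu))
  nlinarith [mul_nonneg hA.le (sq_nonneg (v - B)), sq_nonneg (u * B - v * A)]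

theorem two_neg {A B C u v w : ℤ} (hB : 0 < B) (hC : 0 < C) (hu : u ≠ A)
    (h1 : 1 + A = B + C) (h2 : 1 + u = v + w)
    (h3 : A * B * C + u ^ 2 * B * C = v ^ 2 * A * C + w ^ 2 * A * B) : IsSquare (A * B * C) := by
  have h : (u - A) ^ 2 * (B * C) = (v * C - w * B) ^ 2 * A := by
    linear_combination (1 + A) * h3 + (v ^ 2 * A * C + w ^ 2 * A * B) * h1 -
      A * B * C * (1 + u + v + w) * h2
  have hBC : B * C ≠ 0 := mul_ne_zero hB.ne' hC.ne'
  refine isSquare_of_mul_sq (k := v * C - w * B) (n := (u - A) * (B * C)) ?_ ?_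
  · intro h0
    rw [h0] at h
    exact mul_ne_zero (pow_ne_zero 2 (sub_ne_zero.2 hu)) hBC (h.trans (by ring))
  · linear_combination (-(B * C)) * h

/-- Exactly two of the three signs are negative, and the product of the degrees is a square. -/
theorem three_signs {a b c A B C u v w : ℤ} (ha : a = 1 ∨ a = -1) (hb : b = 1 ∨ b = -1)
    (hc : c = 1 ∨ c = -1) (hA : 0 < A) (hB : 0 < B) (hC : 0 < C) (hu : u ≠ A) (hv : v ≠ B)
    (hw : w ≠ C) (h1 : 1 + a * A + b * B + c * C = 0) (h2 : 1 + a * u + b * v + c * w = 0)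
    (h3 : A * B * C + a * u ^ 2 * B * C + b * v ^ 2 * A * C + c * w ^ 2 * A * B = 0) :
    (if a = -1 then 1 else 0) + (if b = -1 then 1 else 0) + (if c = -1 then 1 else 0) = (2 : ℕ) ∧
      IsSquare (A * B * C) := by
  rcases ha with rfl | rfl <;> rcases hb with rfl | rfl <;> rcases hc with rfl | rfl
  · omega
  · exact (one_neg (C := C) hA hB hu (by linarith) (w := w) (v := v) (by linarith)
      (by linear_combination h3)).elim
  · exact (one_neg (C := B) (B := C) hA hC hu (by linarith) (w := v) (v := w) (by linarith)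
      (by linear_combination h3)).elim
  · exact ⟨by norm_num, two_neg (v := v) (w := w) hB hC hu (by linarith) (by linarith)
      (by linear_combination h3)⟩
  · exact (one_neg (A := B) (B := C) (C := A) (u := v) (v := w) (w := u) hB hC hv (by linarith)
      (by linarith) (by linear_combination h3)).elim
  · refine ⟨by norm_num, ?_⟩
    have := two_neg (A := B) (B := A) (C := C) (u := v) (v := u) (w := w) hA hC hv
      (by linarith) (by linarith) (by linear_combination h3)
    rwa [mul_comm B A] at this
  · refine ⟨by norm_num, ?_⟩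
    have := two_neg (A := C) (B := A) (C := B) (u := w) (v := u) (w := v) hA hB hw
      (by linarith) (by linarith) (by linear_combination h3)
    rwa [show C * A * B = A * B * C by ring] at this
  · exfalso; omega

end CfsgLib.AbelianFrob
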