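import Cfsg.Agent.Lib.AbelianFrob.Derived
import Cfsg.Agent.Lib.AbelianFrob.SignArith
import Cfsg.Agent.Lib.Blocks.ClassCount
import Cfsg.Agent.Lib.Blocks.BlockKernel
import Cfsg.Agent.Lib.Characters.Values
import Cfsg.Agent.Lib.KnownSimple.BurnsideAutomizer

/-!
# The index three case in the presence of an involution
-/

set_option autoImplicit false
set_option linter.style.haveILetI false
set_option linter.unusedSectionVars false

noncomputable section

namespace CfsgLib.AbelianFrob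

open Cfsg CfsgLib.Characters CfsgLib.CharCorr
open scoped ComplexConjugate Classical

universe u

variable {G : Type u} [Group G] [Fintype G]

/-- `z` is not conjugate to `t` or `1` and is not a product of two conjugates of `t`. -/
def Avoids (t z : G) : Prop :=
  (∀ a b : G, IsConj t a → IsConj t b → a * b ≠ z) ∧ ¬ IsConj z t ∧ ¬ IsConj z 1

/-- The three column relations at an element avoiding an involution. -/
theorem relations_of_avoids {t z : G} (ht : orderOf t = 2) (hz : Avoids t z) :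
    ∀ c : IrrCharacter G → ℂ,
      (c = (fun χ : IrrCharacter G => (χ : G → ℂ) t ^ 2 / (χ : G → ℂ) 1) ∨
        c = (fun χ : IrrCharacter G => (χ : G → ℂ) 1) ∨
        c = fun χ : IrrCharacter G => (χ : G → ℂ) t) →
      ∑ χ : IrrCharacter G, c χ * (χ : G → ℂ) z = 0 := by
  intro c hc
  obtain ⟨hpair, hnet, hne1⟩ := hz
  have htt : t * t = 1 := by rw [← pow_two, ← ht, pow_orderOf_eq_one]
  have hreal : ∀ (χ : IrrCharacter G) (x : G), x * x = 1 → conj ((χ : G → ℂ) x) = (χ : G → ℂ) x :=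
    fun χ x hx => by rw [← irr_apply_inv χ x, inv_eq_of_mul_eq_one_right hx]
  rcases hc with rfl | rfl | rfl
  · have hp : CfsgLib.ClassCount.pairs t t {z} = ∅ := by
      rw [Finset.eq_empty_iff_forall_notMem]
      rintro ⟨a, b⟩ hab
      simp only [CfsgLib.ClassCount.pairs, Finset.mem_filter, Finset.mem_product,
        CfsgLib.ClassCount.mem_cls, Finset.mem_singleton] at hab
      exact hpair a b hab.1.1 hab.1.2 hab.2
    have h := CfsgLib.ClassCount.card_pairs_mul_centralizers t t {z}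
    rw [hp, Finset.card_empty, Nat.cast_zero, zero_mul, zero_mul] at h
    have hG : (Nat.card G : ℂ) ≠ 0 := Nat.cast_ne_zero.2 Nat.card_pos.ne'
    refine (mul_eq_zero.mp ?_).resolve_left hG
    rw [← map_zero (starRingEnd ℂ), h, map_sum, Finset.mul_sum]
    refine Finset.sum_congr rfl fun χ _ => ?_
    rw [← CfsgLib.ClassCount.card_div_degree χ, Finset.sum_singleton, irr_apply_inv]
    simp only [map_mul, map_div₀, Complex.conj_conj, hreal χ t htt, hreal χ 1 (one_mul 1),
      Complex.conj_natCast]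
    ring
  · have h := column_orth (G := G) z 1
    rw [if_neg hne1] at h
    rw [← h]
    exact Finset.sum_congr rfl fun χ _ => by rw [hreal χ 1 (one_mul 1), mul_comm]
  · have h := column_orth (G := G) z t
    rw [if_neg hnet] at h
    rw [← h]
    exact Finset.sum_congr rfl fun χ _ => by rw [hreal χ t htt, mul_comm]

/-- A character takes an integer value at an involution. -/
theorem exists_int_value {t : G} (ht : orderOf t = 2) (χ : IrrCharacter G) :
    ∃ z : ℤ, (χ : G → ℂ) t = (z : ℂ) := by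
  obtain ⟨n, ρ, -, hρ⟩ := χ.2
  obtain ⟨ω, hω, -, hsum⟩ := exists_eigenvalues ρ t
  rw [← hρ, hsum]
  have h : ∀ i, ∃ z : ℤ, ω i = (z : ℂ) := fun i => by
    have := hω i
    rw [ht, sq_eq_one_iff] at this
    rcases this with h | h
    · exact ⟨1, by rw [h, Int.cast_one]⟩
    · exact ⟨-1, by rw [h, Int.cast_neg, Int.cast_one]⟩
  choose z hz using h
  exact ⟨∑ i, z i, by rw [Int.cast_sum]; exact Finset.sum_congr rfl fun i _ => hz i⟩

/-- An involution outside every proper normal subgroup is in the kernel of no non-principal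
character. -/
theorem eq_principal_of_value_eq {t : G} (htK : ∀ K : Subgroup G, K.Normal → t ∈ K → K = ⊤)
    {χ : IrrCharacter G} (h : (χ : G → ℂ) t = (χ : G → ℂ) 1) : χ = principalIrr G := by
  by_contra hne
  obtain ⟨K, hKn, hKmem⟩ := CfsgLib.Blocks.exists_kerSubgroup χ
  have hK := htK K hKn ((hKmem t).2 h)
  have hall : ∀ g : G, (χ : G → ℂ) g = (χ : G → ℂ) 1 :=
    fun g => (hKmem g).mp (hK ▸ Subgroup.mem_top g)
  have h' := classInner_irr_ne χ.2 (principalIrr G).2 (fun e => hne (Subtype.ext e))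
  simp [classInner, hall, principalIrr_apply, irr_one_ne_zero χ] at h'

variable {p : ℕ} [Fact p.Prime] (P : Sylow p G) (hab : IsMulCommutative ↥(P : Subgroup G))
  (hfrob : Fpf P) (hCN : (CP P).relIndex (NP P) = 3)

include hab hfrob in
/-- An element of the normalizer fixing a non-identity element of `P` centralizes `P`. -/
theorem mem_CP_of_commute {y n : G} (hy : y ∈ (P : Subgroup G)) (hy1 : y ≠ 1) (hn : n ∈ NP P)
    (h : n * y * n⁻¹ = y) : n ∈ CP P :=
  hfrob y hy hy1 ▸
    ⟨Subgroup.mem_centralizer_singleton_iff.2 (mul_inv_eq_iff_eq_mul.1 h), hn⟩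

include hab hfrob hCN in
/-- Only elements of order at most two are inverted in the normalizer. -/
theorem sq_eq_one_of_inverted {y n : G} (hy : y ∈ (P : Subgroup G)) (hn : n ∈ NP P)
    (h : n * y * n⁻¹ = y⁻¹) : y * y = 1 := by
  by_cases hy1 : y = 1
  · simp [hy1]
  haveI : ((CP P).subgroupOf (NP P)).Normal := inferInstanceAs
    ((Subgroup.centralizer ((P : Subgroup G) : Set G)).subgroupOf
      (Subgroup.normalizer ((P : Subgroup G) : Set G))).Normal
  have h2 : n * n ∈ CP P := mem_CP_of_commute P hab hfrob hy hy1 (mul_mem hn hn) (by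
    calc n * n * y * (n * n)⁻¹ = n * (n * y * n⁻¹) * n⁻¹ := by group
      _ = n * y⁻¹ * n⁻¹ := by rw [h]
      _ = (n * y * n⁻¹)⁻¹ := by group
      _ = y := by rw [h, inv_inv])
  have h3 : ((⟨n, hn⟩ : ↥(NP P)) ^ 3 : ↥(NP P)) ∈ (CP P).subgroupOf (NP P) := by
    have := Subgroup.pow_index_mem ((CP P).subgroupOf (NP P)) (⟨n, hn⟩ : ↥(NP P))
    rwa [show ((CP P).subgroupOf (NP P)).index = 3 from hCN] at this
  have hC : n ∈ CP P := by
    have h3' : n ^ 3 ∈ CP P := by simpa [Subgroup.mem_subgroupOf] using h3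
    have := mul_mem h3' (inv_mem h2)
    rwa [show n ^ 3 * (n * n)⁻¹ = n by group] at this
  rw [← Subgroup.mem_centralizer_iff.1 hC y hy, mul_inv_cancel_right] at h
  rw [← eq_inv_iff_mul_eq_one]
  exact h

include hab hfrob hCN in
/-- The conjugates of an involution of `P` form a four-group with the identity. -/
theorem exists_four_group {t₀ : G} (ht₀ : t₀ ∈ (P : Subgroup G)) (ht₀' : orderOf t₀ = 2) :
    ∃ V : Subgroup ↥(P : Subgroup G), Nat.card V ≤ 4 ∧
      ∀ x : ↥(P : Subgroup G), IsConj t₀ (x : G) → x ∈ V := by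
  haveI := hab
  haveI : ((CP P).subgroupOf (NP P)).Normal := inferInstanceAs
    ((Subgroup.centralizer ((P : Subgroup G) : Set G)).subgroupOf
      (Subgroup.normalizer ((P : Subgroup G) : Set G))).Normal
  set H := (CP P).subgroupOf (NP P)
  have hidx : Nat.card (↥(NP P) ⧸ H) = 3 := hCN
  obtain ⟨n, hn⟩ : ∃ n : ↥(NP P), n ∉ H := by
    by_contra hall
    push Not at hall
    have : H = ⊤ := top_unique fun x _ => hall x
    have h1 : H.index = 1 := by rw [this, Subgroup.index_top]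
    rw [show H.index = 3 from hCN] at h1
    omega
  let f := (P : Subgroup G).normalizerMonoidHom n
  let t₁ : ↥(P : Subgroup G) := ⟨t₀, ht₀⟩
  have hne : t₁ ≠ 1 := fun e => by
    have e' : t₀ = 1 := congrArg Subtype.val e
    rw [e', orderOf_one] at ht₀'
    omega
  have htt : t₁ * t₁ = 1 := Subtype.ext (by
    show t₀ * t₀ = 1
    rw [← pow_two, ← ht₀', pow_orderOf_eq_one])
  have hf : ∀ x : ↥(P : Subgroup G), (f x : G) = (n : G) * x * (n : G)⁻¹ := fun x => rfl
  have hf3 : ∀ x, f (f (f x)) = x := fun x => Subtype.ext (by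
    have h3 : n ^ 3 ∈ H := by
      have := Subgroup.pow_index_mem H n
      rwa [show H.index = 3 from hCN] at this
    have h3' : (n : G) ^ 3 ∈ CP P := by simpa [H, Subgroup.mem_subgroupOf] using h3
    have h4 := Subgroup.mem_centralizer_iff.1 h3' (x : G) x.2
    rw [hf, hf, hf]
    calc (n : G) * ((n : G) * ((n : G) * x * (n : G)⁻¹) * (n : G)⁻¹) * (n : G)⁻¹
        = ((n : G) * n * n) * x * ((n : G) * n * n)⁻¹ := by group
      _ = (n : G) ^ 3 * x * ((n : G) ^ 3)⁻¹ := by rw [pow_three']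
      _ = x := by rw [← h4]; group)
  -- the product of the three conjugates is fixed
  have hprod : t₁ * f t₁ * f (f t₁) = 1 := by
    by_contra h1
    have hfix : f (t₁ * f t₁ * f (f t₁)) = t₁ * f t₁ * f (f t₁) := by
      rw [map_mul, map_mul, hf3, mul_comm' _ t₁, mul_assoc]
    refine hn ?_
    exact Subgroup.mem_subgroupOf.2 (mem_CP_of_commute P hab hfrob
      (t₁ * f t₁ * f (f t₁)).2 (fun e => h1 (Subtype.ext e)) n.2
      ((hf _).symm.trans (congrArg Subtype.val hfix)))
  have hsq : ∀ x, x ∈ ({1, t₁, f t₁, f (f t₁)} : Set ↥(P : Subgroup G)) → x * x = 1 := by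
    rintro x (rfl | rfl | rfl | rfl)
    · simp
    · exact htt
    · rw [← map_mul, htt, map_one]
    · rw [← map_mul, ← map_mul, htt, map_one, map_one]
  have hinv : ∀ {a b c : ↥(P : Subgroup G)}, c * c = 1 → a * b * c = 1 → a * b = c :=
    fun {a b c} hc h => by rw [← mul_one (a * b), ← hc, ← mul_assoc, h, one_mul]
  have e1 : t₁ * f t₁ = f (f t₁) := hinv (hsq _ (by simp)) hprod
  have e2 : t₁ * f (f t₁) = f t₁ := hinv (hsq _ (by simp))
    (by rw [mul_assoc, mul_comm' (f (f t₁)), ← mul_assoc, hprod])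
  have e3 : f t₁ * f (f t₁) = t₁ := hinv htt (by rw [mul_comm', ← mul_assoc, hprod])
  let V : Subgroup ↥(P : Subgroup G) :=
    { carrier := {1, t₁, f t₁, f (f t₁)}
      one_mem' := by simp
      mul_mem' := by
        have s1 := hsq t₁ (by simp)
        have s2 := hsq (f t₁) (by simp)
        have s3 := hsq (f (f t₁)) (by simp)
        rintro a b (rfl | rfl | rfl | rfl) (rfl | rfl | rfl | rfl) <;>
          simp [s1, s2, s3, e1, e2, e3, mul_comm' (f t₁) t₁, mul_comm' (f (f t₁)) t₁,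
            mul_comm' (f (f t₁)) (f t₁)]
      inv_mem' := fun {a} ha => by
        rw [inv_eq_of_mul_eq_one_right (hsq a ha)]; exact ha }
  refine ⟨V, ?_, fun x hx => ?_⟩
  · show Nat.card ↥({1, t₁, f t₁, f (f t₁)} : Set ↥(P : Subgroup G)) ≤ 4
    rw [Nat.card_coe_set_eq]
    refine (Set.ncard_insert_le _ _).trans (Nat.add_le_add_right ?_ 1)
    refine (Set.ncard_insert_le _ _).trans (Nat.add_le_add_right ?_ 1)
    exact (Set.ncard_insert_le _ _).trans (by rw [Set.ncard_singleton])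
  · obtain ⟨g, hg⟩ := isConj_iff.1 hx
    obtain ⟨k, hk, hk'⟩ := fusion P hab ht₀ (g := g) (by rw [hg]; exact x.2)
    rw [hg] at hk'
    haveI : Fact (Nat.Prime 3) := ⟨Nat.prime_three⟩
    have hn' : (QuotientGroup.mk n : ↥(NP P) ⧸ H) ≠ 1 := fun e =>
      hn ((QuotientGroup.eq_one_iff n).1 e)
    obtain ⟨j, hj⟩ := (mem_powers_of_prime_card hidx hn' :
      (QuotientGroup.mk (⟨k, hk⟩ : ↥(NP P)) : ↥(NP P) ⧸ H) ∈ Submonoid.powers _)
    have hj3 : ∃ i, i < 3 ∧ (QuotientGroup.mk (n ^ i) : ↥(NP P) ⧸ H) = QuotientGroup.mk ⟨k, hk⟩ := by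
      refine ⟨j % 3, Nat.mod_lt _ (by norm_num), ?_⟩
      rw [QuotientGroup.mk_pow, ← hj]
      show (QuotientGroup.mk n : ↥(NP P) ⧸ H) ^ (j % 3) = QuotientGroup.mk n ^ j
      rw [← hidx, pow_mod_natCard]
    obtain ⟨i, hi, hi'⟩ := hj3
    have hc : ((n : G) ^ i)⁻¹ * k ∈ CP P := by
      have := QuotientGroup.eq.1 hi'
      simpa [H, Subgroup.mem_subgroupOf] using this
    have hx' : (n : G) ^ i * t₀ * ((n : G) ^ i)⁻¹ = x := by
      rw [← hk', ← mul_inv_cancel_left ((n : G) ^ i) k]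
      have hc' := Subgroup.mem_centralizer_iff.1 hc t₀ ht₀
      generalize ((n : G) ^ i)⁻¹ * k = c at hc' ⊢
      calc (n : G) ^ i * t₀ * ((n : G) ^ i)⁻¹ = (n : G) ^ i * (t₀ * c) * c⁻¹ * ((n : G) ^ i)⁻¹ := by
            group
        _ = (n : G) ^ i * c * t₀ * ((n : G) ^ i * c)⁻¹ := by rw [hc']; group
    show x ∈ ({1, t₁, f t₁, f (f t₁)} : Set ↥(P : Subgroup G))
    interval_cases i
    · exact Or.inr (Or.inl (Subtype.ext (by rw [← hx']; simp [t₁])))
    · exact Or.inr (Or.inr (Or.inl (Subtype.ext (by rw [← hx', hf, pow_one]))))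
    · exact Or.inr (Or.inr (Or.inr (Subtype.ext (by rw [← hx', hf, hf, pow_two]; group; rfl))))

include hab hfrob hCN in
/-- A linear character of `P` whose support avoids an involution. -/
theorem exists_avoiding (hP4 : 4 < Nat.card ↥(P : Subgroup G)) {t : G} (ht : orderOf t = 2) :
    ∃ ψ : Dual P, ψ ≠ 1 ∧ ∀ y : ↥(P : Subgroup G), ψ y ≠ 1 →
      ∀ v : G, Commute v (y : G) → ¬ p ∣ orderOf v → Avoids t ((y : G) * v) := by
  haveI := hab
  letI : CommGroup ↥(P : Subgroup G) :=
    { (inferInstance : Group ↥(P : Subgroup G)) with mul_comm := mul_comm' }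
  have hp : p.Prime := Fact.out
  obtain ⟨V, hV4, hV⟩ : ∃ V : Subgroup ↥(P : Subgroup G), Nat.card V ≤ 4 ∧
      (p = 2 → ∀ x : ↥(P : Subgroup G), IsConj t (x : G) → x ∈ V) := by
    by_cases hp2 : p = 2
    · subst hp2
      obtain ⟨g, hg⟩ := CfsgLib.BurnsideAutomizer.exists_conj_mem_sylow P (x := t) (k := 1)
        (by rw [pow_one, ← ht, pow_orderOf_eq_one])
      obtain ⟨V, h1, h2⟩ := exists_four_group P hab hfrob hCN hg
        (by rw [← MulAut.conj_apply, MulEquiv.orderOf_eq, ht])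
      exact ⟨V, h1, fun _ x hx => h2 x ((isConj_iff.2 ⟨g, rfl⟩ : IsConj t (g * t * g⁻¹)).symm.trans hx)⟩
    · exact ⟨⊥, by simp, fun h => absurd h hp2⟩
  obtain ⟨y₀, hy₀⟩ : ∃ y : ↥(P : Subgroup G), y ∉ V := by
    by_contra hall
    push Not at hall
    have : V = ⊤ := top_unique fun x _ => hall x
    rw [this, Subgroup.card_top] at hV4
    omega
  obtain ⟨f, hf⟩ := CommGroup.exists_apply_ne_one_of_hasEnoughRootsOfUnity
    (↥(P : Subgroup G) ⧸ V) ℂ (a := QuotientGroup.mk' V y₀)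
    fun e => hy₀ ((QuotientGroup.eq_one_iff y₀).1 e)
  let ψ : Dual P := f.comp (QuotientGroup.mk' V)
  refine ⟨ψ, fun e => hf (DFunLike.congr_fun e y₀), fun y hψy v hv hv' => ?_⟩
  have hyV : y ∉ V := fun h => hψy (by
    show f (QuotientGroup.mk' V y) = 1
    rw [show QuotientGroup.mk' V y = 1 from (QuotientGroup.eq_one_iff y).2 h, map_one])
  have hy1 : (y : G) ≠ 1 := fun e => hyV (by rw [show y = 1 from Subtype.ext e]; exact one_mem V)
  obtain ⟨-, -, -, hk, -⟩ := isPPart_self P hp y.2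
  have hzp : IsPPart p ((y : G) * v) y := CfsgLib.Blocks.isPPart_mul hv.symm hk hv'
  have hconj : ∀ {a : G}, IsConj t a → orderOf a = 2 := fun {a} h => by
    obtain ⟨g, rfl⟩ := isConj_iff.1 h
    rw [← MulAut.conj_apply, MulEquiv.orderOf_eq, ht]
  refine ⟨?_, ?_, ?_⟩
  · intro a b ha hb hab'
    have haa : a * a = 1 := by rw [← pow_two, ← hconj ha, pow_orderOf_eq_one]
    have hbb : b * b = 1 := by rw [← pow_two, ← hconj hb, pow_orderOf_eq_one]
    have hainv : a⁻¹ = a := inv_eq_of_mul_eq_one_right haa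
    have hbinv : b⁻¹ = b := inv_eq_of_mul_eq_one_right hbb
    have hza : a * ((y : G) * v) * a⁻¹ = ((y : G) * v)⁻¹ := by
      rw [← hab', mul_inv_rev, hbinv, hainv, ← mul_assoc a a b, haa, one_mul]
    have hya : a * (y : G) * a⁻¹ = (y : G)⁻¹ := by
      have h1 : IsPPart p ((y : G) * v)⁻¹ (y : G)⁻¹ := by
        rw [mul_inv_rev, hv.symm.inv_inv.symm.eq]
        exact CfsgLib.Blocks.isPPart_mul hv.symm.inv_inv (by rwa [orderOf_inv]) (by rwa [orderOf_inv])
      have h2 : IsPPart p (a * ((y : G) * v) * a⁻¹) (a * (y : G) * a⁻¹) := by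
        rw [show a * ((y : G) * v) * a⁻¹ = (a * (y : G) * a⁻¹) * (a * v * a⁻¹) by group]
        refine CfsgLib.Blocks.isPPart_mul (hv.symm.map (MulAut.conj a).toMonoidHom) ?_ ?_
        · obtain ⟨k, hk⟩ := hk
          exact ⟨k, by rw [← MulAut.conj_apply, MulEquiv.orderOf_eq, hk]⟩
        · rw [← MulAut.conj_apply, MulEquiv.orderOf_eq]; exact hv'
      rw [hza] at h2
      exact CfsgLib.Blocks.IsPPart.unique hp h2 h1
    obtain ⟨n, hn, hn'⟩ := fusion P hab y.2 (g := a) (by rw [hya]; exact inv_mem y.2)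
    rw [hya] at hn'
    have hyy := sq_eq_one_of_inverted P hab hfrob hCN y.2 hn hn'
    have hord : orderOf (y : G) = 2 := orderOf_eq_prime (by rw [pow_two]; exact hyy) hy1
    have hp2 : p = 2 := by
      obtain ⟨k, hk⟩ := hk
      rw [hord] at hk
      rcases k with _ | k
      · simp at hk
      · exact (Nat.prime_two.eq_one_or_self_of_dvd p ⟨p ^ k, by rw [hk, pow_succ']⟩).resolve_left
          hp.ne_one
    -- project to the centralizer of `y`
    subst hp2
    set H := Subgroup.centralizer ({(y : G)} : Set G)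
    obtain ⟨k, hidx, hcard⟩ := centralizer_core_index P hab hfrob y.2 hy1
    set O := pPrimeCore 2 ↥H
    have hle := le_centralizer_singleton P hab y.2
    have haH : a ∈ H := by
      rw [Subgroup.mem_centralizer_singleton_iff]
      have := mul_inv_eq_iff_eq_mul.1 hya
      rw [this, inv_eq_of_mul_eq_one_right hyy]
    have hvH : v ∈ H := Subgroup.mem_centralizer_singleton_iff.2 hv.eq.symm.symm
    have hbH : b ∈ H := by
      have : b = a * ((y : G) * v) := by rw [← hab', ← mul_assoc, haa, one_mul]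
      rw [this]
      exact mul_mem haH (mul_mem (hle y.2) hvH)
    let π := QuotientGroup.mk' O
    let ι : ↥(P : Subgroup G) →* ↥H ⧸ O := π.comp (Subgroup.inclusion hle)
    have hι : Function.Injective ι := by
      rw [injective_iff_map_eq_one]
      intro w hw
      have hwO : (Subgroup.inclusion hle w : ↥H) ∈ O := (QuotientGroup.eq_one_iff _).1 hw
      have h1 : orderOf w ∣ Nat.card O := by
        rw [← orderOf_injective (Subgroup.inclusion hle) (Subgroup.inclusion_injective hle) w,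
          ← Subgroup.orderOf_mk _ hwO]
        exact orderOf_dvd_natCard _
      obtain ⟨j, hj⟩ := IsPGroup.iff_orderOf.1 P.2 w
      rcases j with _ | j
      · simpa using hj
      · exact absurd ((Dvd.intro_left _ (pow_succ 2 j).symm).trans (hj ▸ h1))
          CfsgLib.PCore.not_dvd_card_pPrimeCore
    have hsurj : Function.Surjective ι := by
      have hcH : Nat.card (↥H ⧸ O) = Nat.card ↥(P : Subgroup G) := by
        rw [hcard, ← Subgroup.index_eq_card, hidx]
        congr 1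
        rw [← Subgroup.card_mul_index O, hidx, Nat.factorization_mul Nat.card_pos.ne'
          (pow_ne_zero k two_ne_zero), Finsupp.add_apply,
          Nat.factorization_eq_zero_of_not_dvd CfsgLib.PCore.not_dvd_card_pPrimeCore, zero_add,
          Nat.Prime.factorization_pow Nat.prime_two, Finsupp.single_eq_same]
      exact ((Nat.bijective_iff_injective_and_card ι).2 ⟨hι, hcH.symm⟩).2
    have hcomm : ∀ x x' : ↥H ⧸ O, x * x' = x' * x := fun x x' => by
      obtain ⟨w, rfl⟩ := hsurj x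
      obtain ⟨w', rfl⟩ := hsurj x'
      rw [← map_mul, ← map_mul, mul_comm]
    have hproj : ∀ x (hx : x ∈ H), IsConj t x → ∃ w ∈ V, ι w = π ⟨x, hx⟩ := by
      intro x hx hxt
      obtain ⟨g, hg⟩ := CfsgLib.BurnsideAutomizer.exists_conj_mem_sylow (P.subtype hle)
        (x := (⟨x, hx⟩ : ↥H)) (k := 1)
        (Subtype.ext (by
          show x ^ 2 ^ 1 = 1
          rw [pow_one, ← hconj hxt, pow_orderOf_eq_one]))
      have hw : (g : G) * x * (g : G)⁻¹ ∈ (P : Subgroup G) := hg
      refine ⟨⟨_, hw⟩, hV rfl _ (hxt.trans (isConj_iff.2 ⟨g, rfl⟩)), ?_⟩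
      show π (Subgroup.inclusion hle ⟨_, hw⟩) = _
      rw [show Subgroup.inclusion hle ⟨_, hw⟩ = g * ⟨x, hx⟩ * g⁻¹ from Subtype.ext rfl,
        map_mul, map_mul, hcomm (π g), mul_assoc, ← map_mul, mul_inv_cancel, map_one, mul_one]
    obtain ⟨wa, hwa, ea⟩ := hproj a haH ha
    obtain ⟨wb, hwb, eb⟩ := hproj b hbH hb
    refine hyV ?_
    have hvO : π ⟨v, hvH⟩ = 1 := by
      rw [QuotientGroup.mk'_apply, QuotientGroup.eq_one_iff]
      have h1 := Subgroup.pow_index_mem O (⟨v, hvH⟩ : ↥H)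
      rw [hidx] at h1
      obtain ⟨m, hm⟩ := exists_pow_eq_self_of_coprime (x := (⟨v, hvH⟩ : ↥H))
        (Nat.Coprime.pow_left k (hp.coprime_iff_not_dvd.2 (by rwa [Subgroup.orderOf_mk v hvH])))
      rw [← hm]
      exact Subgroup.pow_mem _ h1 m
    have : y = wa * wb := hι (by
      rw [map_mul, ea, eb, ← map_mul]
      show π (Subgroup.inclusion hle y) = _
      rw [show (⟨a, haH⟩ : ↥H) * ⟨b, hbH⟩ = Subgroup.inclusion hle y * ⟨v, hvH⟩ from
        Subtype.ext hab', map_mul, hvO, mul_one])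
    rw [this]
    exact mul_mem hwa hwb
  · intro hc
    obtain ⟨g, hg⟩ := isConj_iff.1 hc
    have hord : orderOf ((y : G) * v) = 2 := by
      rw [← MulEquiv.orderOf_eq (MulAut.conj g), MulAut.conj_apply, hg, ht]
    obtain ⟨j, hj⟩ := hk
    have hco : Nat.Coprime (orderOf (y : G)) (orderOf v) := by
      rw [hj]; exact Nat.Coprime.pow_left j (hp.coprime_iff_not_dvd.2 hv')
    rw [hv.symm.orderOf_mul_eq_mul_orderOf_of_coprime hco] at hord
    rcases Nat.prime_two.eq_one_or_self_of_dvd _ ⟨orderOf v, hord.symm⟩ with h | h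
    · exact hy1 (orderOf_eq_one_iff.1 h)
    · have hv1 : v = 1 := by
        rw [h] at hord
        exact orderOf_eq_one_iff.1 (by omega)
      rcases j with _ | j
      · rw [pow_zero] at hj; omega
      · have hp2 : p = 2 := (Nat.prime_two.eq_one_or_self_of_dvd p
          ⟨p ^ j, by rw [← h, hj, pow_succ']⟩).resolve_left hp.ne_one
        refine hyV (hV hp2 y ?_)
        rw [hv1, mul_one] at hg
        exact (isConj_iff.2 ⟨g, hg⟩).symm
  · intro hc
    have h1 : (y : G) * v = 1 := isConj_one_left.1 hc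
    refine hy1 (CfsgLib.Blocks.IsPPart.unique hp hzp ?_)
    rw [h1]
    exact ⟨1, one_mul 1, Commute.one_left _, ⟨0, by simp⟩, by rw [orderOf_one]; exact hp.not_dvd_one⟩

variable {M : Ideal AlgInt} (hM : IsPModular p M)

include hab hfrob hCN hM in
/-- The signs and degrees of the three non-principal characters. -/
theorem signs_and_square {μ : Dual P → IrrCharacter G} {A : IrrCharacter G → ℤ} {δ : ℤ}
    (S : Struct P M μ A 0 δ) (hP4 : 4 < Nat.card ↥(P : Subgroup G)) {α β : IrrCharacter G}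
    (hrest : S.rest = {principalIrr G, α, β}) (hne : α ≠ β) (hα1 : α ≠ principalIrr G)
    (hβ1 : β ≠ principalIrr G) (ha : A α = 1 ∨ A α = -1) (hb : A β = 1 ∨ A β = -1)
    {t : G} (ht : orderOf t = 2) (htK : ∀ K : Subgroup G, K.Normal → t ∈ K → K = ⊤) :
    (if A α = -1 then 1 else 0) + (if A β = -1 then 1 else 0) + (if δ = 1 then 1 else 0) = (2 : ℕ) ∧
      ∀ η ∈ S.exc, IsSquare (charDegree (η : G → ℂ) *
        (charDegree (α : G → ℂ) * charDegree (β : G → ℂ))) := by
  obtain ⟨ψ, hψ, hav⟩ := exists_avoiding P hab hfrob hCN hP4 ht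
  obtain ⟨-, hA1⟩ := S.principal_mem_rest hab hfrob hM (by rw [hCN]; omega)
  have hη1 : μ ψ ≠ principalIrr G := fun e => by
    have h1 : principalIrr G ∈ S.exc := S.mem_exc.2 ⟨ψ, hψ, e⟩
    have h2 : principalIrr G ∈ S.rest := by rw [hrest]; simp
    exact (S.mem_rest.1 h2).2 h1
  have hrel : ∀ c : IrrCharacter G → ℂ,
      (∀ y : ↥(P : Subgroup G), ψ y ≠ 1 → ∀ v : G, Commute v (y : G) → ¬ p ∣ orderOf v →
        ∑ χ : IrrCharacter G, c χ * (χ : G → ℂ) ((y : G) * v) = 0) →
      c (principalIrr G) + (A α : ℂ) * c α + (A β : ℂ) * c β + ((-δ : ℤ) : ℂ) * c (μ ψ) = 0 := by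
    intro c hc
    have h := column_rel P hM c 1 ψ fun y hy v hv hv' =>
      hc y (fun e => hy (by rw [e]; rfl)) v hv hv'
    rw [Finset.sum_congr rfl fun χ hχ => by
      rw [S.bdiff χ (Finset.mem_filter.1 hχ).2 ψ hψ, Int.cast_sub, sub_mul],
      Finset.sum_sub_distrib, S.sum_split, hrest,
      Finset.sum_eq_single_of_mem (μ ψ) (Finset.mem_filter.2 ⟨Finset.mem_univ _, S.mem ψ hψ⟩)
        (fun χ _ hne => by rw [if_neg (Ne.symm hne)]; simp), if_pos rfl,
      Finset.sum_eq_zero (s := S.exc) (fun χ hχ => by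
        obtain ⟨φ, hφ, rfl⟩ := S.mem_exc.1 hχ
        rw [S.const φ hφ]; simp),
      Finset.sum_insert (by simp [Ne.symm hα1, Ne.symm hβ1]), Finset.sum_pair hne, hA1] at h
    push_cast at h ⊢
    linear_combination h
  have hav' : ∀ c : IrrCharacter G → ℂ,
      (c = (fun χ : IrrCharacter G => (χ : G → ℂ) t ^ 2 / (χ : G → ℂ) 1) ∨
        c = (fun χ : IrrCharacter G => (χ : G → ℂ) 1) ∨
        c = fun χ : IrrCharacter G => (χ : G → ℂ) t) →
      c (principalIrr G) + (A α : ℂ) * c α + (A β : ℂ) * c β + ((-δ : ℤ) : ℂ) * c (μ ψ) = 0 :=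
    fun c hc => hrel c fun y hy v hv hv' => relations_of_avoids ht (hav y hy v hv hv') c hc
  have e1 := hav' _ (Or.inr (Or.inl rfl))
  have e2 := hav' _ (Or.inr (Or.inr rfl))
  have e3 := hav' _ (Or.inl rfl)
  simp only [irr_one_eq_charDegree α, irr_one_eq_charDegree β, irr_one_eq_charDegree (μ ψ),
    principalIrr_apply] at e1 e2 e3
  obtain ⟨u, hu⟩ := exists_int_value ht α
  obtain ⟨v, hv⟩ := exists_int_value ht β
  obtain ⟨w, hw⟩ := exists_int_value ht (μ ψ)
  rw [hu, hv, hw] at e2 e3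
  set D₁ := charDegree (α : G → ℂ) with hD₁
  set D₂ := charDegree (β : G → ℂ) with hD₂
  set D₃ := charDegree (μ ψ : G → ℂ) with hD₃
  have hp1 : 0 < D₁ := charDegree_irr_pos α
  have hp2 : 0 < D₂ := charDegree_irr_pos β
  have hp3 : 0 < D₃ := charDegree_irr_pos (μ ψ)
  have hTD : ∀ (χ : IrrCharacter G) (z : ℤ), χ ≠ principalIrr G → (χ : G → ℂ) t = (z : ℂ) →
      z ≠ (charDegree (χ : G → ℂ) : ℤ) := fun χ z hχ hz e => hχ <| eq_principal_of_value_eq htK
    (by rw [hz, e, Int.cast_natCast, irr_one_eq_charDegree])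
  have h3 : (D₁ : ℤ) * D₂ * D₃ + A α * u ^ 2 * D₂ * D₃ + A β * v ^ 2 * D₁ * D₃ +
      (-δ) * w ^ 2 * D₁ * D₂ = 0 := by
    have c1 : (D₁ : ℂ) ≠ 0 := Nat.cast_ne_zero.2 hp1.ne'
    have c2 : (D₂ : ℂ) ≠ 0 := Nat.cast_ne_zero.2 hp2.ne'
    have c3 : (D₃ : ℂ) ≠ 0 := Nat.cast_ne_zero.2 hp3.ne'
    field_simp at e3
    push_cast at e3
    have : (((D₁ : ℤ) * D₂ * D₃ + A α * u ^ 2 * D₂ * D₃ + A β * v ^ 2 * D₁ * D₃ +
        (-δ) * w ^ 2 * D₁ * D₂ : ℤ) : ℂ) = ((0 : ℤ) : ℂ) := by
      push_cast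
      linear_combination e3
    exact_mod_cast this
  obtain ⟨hcount, hsq⟩ := three_signs ha hb
    (show -δ = 1 ∨ -δ = -1 by rcases S.sign with rfl | rfl <;> simp)
    (Int.natCast_pos.2 hp1) (Int.natCast_pos.2 hp2) (Int.natCast_pos.2 hp3)
    (hTD α u hα1 hu) (hTD β v hβ1 hv) (hTD (μ ψ) w hη1 hw)
    (by exact_mod_cast e1) (by exact_mod_cast e2) h3
  refine ⟨by rw [← hcount]; rcases S.sign with rfl | rfl <;> simp, fun η hη => ?_⟩
  obtain ⟨φ, hφ, rfl⟩ := S.mem_exc.1 hη
  have hdeg : charDegree (μ φ : G → ℂ) = D₃ := by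
    have h := S.regular_eq hM hφ hψ (g := 1) (by rw [orderOf_one]; exact hM.1.not_dvd_one)
    rw [irr_one_eq_charDegree, irr_one_eq_charDegree] at h
    exact_mod_cast h
  rw [hdeg]
  obtain ⟨r, hr⟩ := hsq
  refine ⟨r.natAbs, ?_⟩
  have h := congrArg Int.natAbs hr
  simp only [Int.natAbs_mul, Int.natAbs_natCast] at h
  rw [← h]; ring

end CfsgLib.AbelianFrob
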